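import Mathlib
import Cfsg.Agent.H31.LineRep
import Cfsg.Agent.H31.LineSwap

/-!
Recognition of `PSL(2, p)` by order and number of Sylow `p`-subgroups.
-/

set_option autoImplicit false
set_option linter.unusedSectionVars false

namespace Cfsg.Agent.H31

open OnePoint

variable {G : Type*} [Group G] [Finite G] [IsSimpleGroup G] {F : Type*} [Field F] [Fintype F]
  [DecidableEq F] {ρ : G →* Equiv.Perm (OnePoint F)} {m : ℕ}

/-- There is a Weyl element in the image of a line representation. -/
theorem IsLineRep.exists_weyl (h : IsLineRep ρ m) :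
    ∃ w : G, ρ w ∞ = ((0 : F) : OnePoint F) ∧ ρ w ((0 : F) : OnePoint F) = ∞ ∧
      ∀ x : F, x ≠ 0 → ρ w x = ↑(-1 / x) := by
  obtain ⟨t, hti, ht0, htt, ht1, hinv⟩ := h.exists_swap_inverting
  have htt' : ∀ y, ρ t (ρ t y) = y := fun y => by
    rw [← Equiv.Perm.mul_apply, ← map_mul, htt, map_one, Equiv.Perm.one_apply]
  -- values of `t` on non-zero finite points
  have hval : ∀ x : F, x ≠ 0 → ∃ y : F, y ≠ 0 ∧ ρ t x = ↑y := by
    intro x hx
    cases hh : ρ t (x : OnePoint F) with
    | infty =>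
      have := (ρ t).injective (hh.trans ht0.symm)
      exact absurd (OnePoint.coe_eq_coe.1 this) hx
    | coe y =>
      refine ⟨y, fun hy => ?_, rfl⟩
      rw [hy, ← hti] at hh
      exact OnePoint.coe_ne_infty _ ((ρ t).injective hh)
  choose! τ hτ0 hτ using hval
  have hττ : ∀ x, x ≠ 0 → τ (τ x) = x := fun x hx => OnePoint.coe_eq_coe.1 (by
    rw [← hτ _ (hτ0 x hx), ← hτ x hx, htt'])
  -- `t` inverts multipliers
  have hscal : ∀ a x : F, a ≠ 0 → IsSquare a → x ≠ 0 → τ (a * x) = τ x / a := by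
    intro a x ha ha' hx
    obtain ⟨g, hg⟩ := h.exists_torus_mult ha ha'
    have e : (g : G) * t * g = t := by
      have h3 := congrArg (fun z => t * z) (hinv _ (inv_mem g.2))
      simp only [inv_inv, ← mul_assoc, htt, one_mul] at h3
      rw [mul_assoc, ← h3]; group
    have h4 := congrArg (fun z => ρ z (x : OnePoint F)) e
    simp only [map_mul, Equiv.Perm.mul_apply, h.apply_torus, hg] at h4
    rw [hτ x hx, hτ _ (mul_ne_zero ha hx), h.apply_torus, hg, OnePoint.coe_eq_coe] at h4
    rw [eq_div_iff ha, mul_comm]; exact h4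
  have hsq : ∀ x, x ≠ 0 → IsSquare x → τ x = τ 1 / x := fun x hx hx' => by
    have := hscal x 1 hx hx' one_ne_zero; rwa [mul_one] at this
  have hc := hτ0 1 one_ne_zero
  -- if `t 1` is a non-square then `t` is a Moebius map
  have hnon : ¬ IsSquare (τ 1) → ∀ y, y ≠ 0 → τ y = τ 1 / y := by
    intro hc' y hy
    by_cases hy' : IsSquare y
    · exact hsq y hy hy'
    · have hq := h.isSquare_div_of_not hc hy hc' hy'
      have h1 := hsq _ (div_ne_zero hc hy) hq
      rw [div_div_cancel₀ hc] at h1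
      have h5 := hττ _ (div_ne_zero hc hy)
      rwa [h1] at h5
  by_cases hm : Even m
  · -- every swapping involution has a fixed point
    have hcsq : IsSquare (τ 1) := by
      by_contra hc'
      obtain ⟨x, hx⟩ := h.invol_has_fixed hm htt ht1
      cases x with
      | infty => exact OnePoint.infty_ne_coe _ (hx.symm.trans hti)
      | coe x =>
        have hx0 : x ≠ 0 := by
          rintro rfl; exact OnePoint.coe_ne_infty _ (hx.symm.trans ht0)
        rw [hτ x hx0, OnePoint.coe_eq_coe, hnon hc' x hx0, div_eq_iff hx0] at hx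
        exact hc' (hx ▸ IsSquare.mul_self x)
    obtain ⟨g1, hg1⟩ := h.exists_torus_mult (inv_ne_zero hc) hcsq.inv
    set t1 := (g1 : G) * t with ht1def
    have hi1 : ρ t1 ∞ = ((0 : F) : OnePoint F) := by
      rw [map_mul, Equiv.Perm.mul_apply, hti, IsLineRep.torus_apply_zero]
    have h01 : ρ t1 ((0 : F) : OnePoint F) = ∞ := by
      rw [map_mul, Equiv.Perm.mul_apply, ht0, IsLineRep.torus_apply_infty]
    obtain ⟨hinv1, ht1ne⟩ := h.swap_invol_even hm hi1 h01
    set σ : F → F := fun x => τ x / τ 1 with hσdef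
    have hσ : ∀ x : F, x ≠ 0 → ρ t1 x = ↑(σ x) := by
      intro x hx
      rw [map_mul, Equiv.Perm.mul_apply, hτ x hx, h.apply_torus, hg1, hσdef]
      congr 1; change _ = τ x / τ 1; rw [div_eq_inv_mul]
    have hσ0 : ∀ x, x ≠ 0 → σ x ≠ 0 := fun x hx => div_ne_zero (hτ0 x hx) hc
    have hσσ : ∀ x, x ≠ 0 → σ (σ x) = x := fun x hx => OnePoint.coe_eq_coe.1 (by
      rw [← hσ _ (hσ0 x hx), ← hσ x hx, ← Equiv.Perm.mul_apply, ← map_mul, hinv1, map_one,
        Equiv.Perm.one_apply])
    have hσsq : ∀ x, x ≠ 0 → IsSquare x → σ x = 1 / x := by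
      intro x hx hx'
      change τ x / τ 1 = _
      rw [hsq x hx hx']; field_simp
    -- a non-square
    obtain ⟨n, hn⟩ := FiniteField.exists_nonsquare h.ringChar_ne_two
    have hn0 : n ≠ 0 := by rintro rfl; exact hn IsSquare.zero
    have hσn : ¬ IsSquare (σ n) := by
      intro hs
      have := hσsq _ (hσ0 n hn0) hs
      rw [hσσ n hn0] at this
      exact hn (this ▸ (one_div (σ n)) ▸ hs.inv)
    set c := n * σ n with hcdef
    have hσN : ∀ y, y ≠ 0 → ¬ IsSquare y → σ y = c / y := by
      intro y hy hy'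
      have hq := h.isSquare_div_of_not hy hn0 hy' hn
      have hyn : y = y / n * n := by field_simp
      change τ y / τ 1 = n * σ n / y
      conv_lhs => rw [hyn, hscal _ n (div_ne_zero hy hn0) hq hn0]
      change τ n / (y / n) / τ 1 = n * (τ n / τ 1) / y
      field_simp
    -- compare two involutions with two common fixed points
    choose T hT1 hT2 using h.transl
    have hneg : IsSquare (-1 : F) := h.isSquare_neg_one_iff.2 hm
    obtain ⟨z, hz⟩ := h.exists_torus_mult (neg_ne_zero.2 one_ne_zero) hneg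
    have h2 := h.two_ne_zero'
    have hm2 : (-2 : F) ≠ 0 := neg_ne_zero.2 h2
    set b := σ (-2) with hb
    set A := T (-1) * t1 * T 1 with hA
    set s0 := T (2 * b) * (z : G) with hs0
    set B := t1 * s0 * t1 with hB
    have hs0i : ρ s0 ∞ = ∞ := by
      rw [map_mul, Equiv.Perm.mul_apply, IsLineRep.torus_apply_infty, hT1]
    have hs0x : ∀ x : F, ρ s0 x = ↑(2 * b - x) := by
      intro x; rw [map_mul, Equiv.Perm.mul_apply, h.apply_torus, hT2, hz]; congr 1; ring
    have hTinv : T (-1) * T 1 = 1 ∧ T 1 * T (-1) = 1 := by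
      constructor <;> refine h.ext_eval (by simp [hT1]) fun x => ?_ <;> simp [hT2]
    have hAA : A * A = 1 := by
      rw [hA, show T (-1) * t1 * T 1 * (T (-1) * t1 * T 1) =
        T (-1) * t1 * (T 1 * T (-1)) * (t1 * T 1) by group, hTinv.2, mul_one, ← mul_assoc,
        mul_assoc (T (-1)), hinv1, mul_one, hTinv.1]
    have hs0s0 : s0 * s0 = 1 := by
      refine h.ext_eval (by simp [hs0i]) fun x => ?_
      rw [map_mul, Equiv.Perm.mul_apply, hs0x, hs0x, map_one, Equiv.Perm.one_apply]; congr 1; ring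
    have hBB : B * B = 1 := by
      rw [hB, show t1 * s0 * t1 * (t1 * s0 * t1) = t1 * s0 * (t1 * t1) * (s0 * t1) by group,
        hinv1, mul_one, ← mul_assoc, mul_assoc t1, hs0s0, mul_one, hinv1]
    have hσ1 : σ 1 = 1 := by simp [hσdef, hc]
    have hA0 : ρ A ((0 : F) : OnePoint F) = ((0 : F) : OnePoint F) := by
      simp [hA, hT2, hσ 1 one_ne_zero, hσ1]
    have hA2 : ρ A ((-2 : F) : OnePoint F) = ((-2 : F) : OnePoint F) := by
      have e : (-2 : F) + 1 = -1 := by ring
      have e' : σ (-1) = -1 := by rw [hσsq _ (neg_ne_zero.2 one_ne_zero) hneg]; field_simp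
      rw [hA, map_mul, map_mul, Equiv.Perm.mul_apply, Equiv.Perm.mul_apply, hT2, e,
        hσ _ (neg_ne_zero.2 one_ne_zero), e', hT2]
      congr 1; ring
    have hB0 : ρ B ((0 : F) : OnePoint F) = ((0 : F) : OnePoint F) := by
      rw [hB, map_mul, map_mul, Equiv.Perm.mul_apply, Equiv.Perm.mul_apply, h01, hs0i, hi1]
    have hB2 : ρ B ((-2 : F) : OnePoint F) = ((-2 : F) : OnePoint F) := by
      rw [hB, map_mul, map_mul, Equiv.Perm.mul_apply, Equiv.Perm.mul_apply, hσ _ hm2, ← hb, hs0x,
        show 2 * b - b = b by ring, hσ _ (hσ0 _ hm2), hσσ _ hm2]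
    have hA1 : A ≠ 1 := by
      intro e
      have : t1 = 1 := by
        have h' : T (-1) * t1 = T (-1) := by
          calc T (-1) * t1 = T (-1) * t1 * (T 1 * T (-1)) := by rw [hTinv.2, mul_one]
            _ = A * T (-1) := by rw [hA]; group
            _ = T (-1) := by rw [e, one_mul]
        simpa using h'
      exact ht1ne this
    have hB1 : B ≠ 1 := by
      intro e
      have : s0 = 1 := by
        have h' : t1 * B * t1 = t1 * t1 := by rw [e, mul_one]
        rw [hB, show t1 * (t1 * s0 * t1) * t1 = (t1 * t1) * s0 * (t1 * t1) by group, hinv1] at h'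
        simpa using h'
      have h0' := hs0x 0
      have h1' := hs0x 1
      rw [this, map_one, Equiv.Perm.one_apply, OnePoint.coe_eq_coe] at h0' h1'
      exact h2 (by linear_combination h1' - h0')
    have hAB : A = B := by
      obtain ⟨k, hk⟩ := h.trans ((0 : F) : OnePoint F) ∞
      have hkinv : (ρ k)⁻¹ ∞ = ((0 : F) : OnePoint F) := by rw [Equiv.Perm.inv_eq_iff_eq, hk]
      obtain ⟨y, hy⟩ : ∃ y : F, ρ k ((-2 : F) : OnePoint F) = ↑y := by
        cases hh : ρ k ((-2 : F) : OnePoint F) with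
        | infty => exact absurd (OnePoint.coe_eq_coe.1 ((ρ k).injective (hh.trans hk.symm))) hm2
        | coe y => exact ⟨y, rfl⟩
      have key : ∀ S : G, S * S = 1 → S ≠ 1 → ρ S ((0 : F) : OnePoint F) = ((0 : F) : OnePoint F) →
          ρ S ((-2 : F) : OnePoint F) = ((-2 : F) : OnePoint F) →
          ρ (k * S * k⁻¹) ∞ = ∞ ∧ ∀ x : F, ρ (k * S * k⁻¹) x = ↑(2 * y - x) := by
        intro S hS hS1 hS0 hS2
        have e1 : ρ (k * S * k⁻¹) ∞ = ∞ := by
          rw [map_mul, map_mul, map_inv, Equiv.Perm.mul_apply, Equiv.Perm.mul_apply, hkinv, hS0, hk]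
        refine ⟨e1, ?_⟩
        obtain ⟨-, b', hb'⟩ := h.invol_fix_infty (s := k * S * k⁻¹)
          (by rw [show k * S * k⁻¹ * (k * S * k⁻¹) = k * (S * S) * k⁻¹ by group, hS]; group)
          (by rwa [Ne, conj_eq_one_iff]) e1
        have e2 : ρ (k * S * k⁻¹) (y : OnePoint F) = ↑y := by
          rw [map_mul, map_mul, map_inv, Equiv.Perm.mul_apply, Equiv.Perm.mul_apply,
            (Equiv.Perm.inv_eq_iff_eq.2 hy.symm : (ρ k)⁻¹ (y : OnePoint F) = _), hS2, hy]
        rw [hb', OnePoint.coe_eq_coe] at e2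
        intro x; rw [hb']; congr 1; linear_combination e2
      obtain ⟨a1, a2⟩ := key A hAA hA1 hA0 hA2
      obtain ⟨b1, b2⟩ := key B hBB hB1 hB0 hB2
      have : k * A * k⁻¹ = k * B * k⁻¹ :=
        h.ext_eval (a1.trans b1.symm) fun x => (a2 x).trans (b2 x).symm
      simpa using this
    -- evaluate at infinity
    have hbval : 2 * b = -1 := by
      have e := congrArg (fun S => ρ S ∞) hAB
      simp only [hA, hB, map_mul, Equiv.Perm.mul_apply, hT1, hi1, hT2, zero_add, hs0x, sub_zero]
        at e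
      have hne : 2 * b ≠ 0 := mul_ne_zero h2 (hσ0 _ hm2)
      rw [hσ _ hne, OnePoint.coe_eq_coe] at e
      have := congrArg σ e
      rw [hσσ _ hne, hσsq _ (neg_ne_zero.2 one_ne_zero) hneg] at this
      rw [← this]; field_simp
    -- a square followed by a non-square
    obtain ⟨x, hx0, hxs, hxn0, hxn⟩ :
        ∃ x : F, x ≠ 0 ∧ IsSquare x ∧ x + 1 ≠ 0 ∧ ¬ IsSquare (x + 1) := by
      by_contra hcon
      push Not at hcon
      have hadd : ∀ u v : F, IsSquare u → IsSquare v → IsSquare (u + v) := by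
        intro u v hu hv
        rcases eq_or_ne u 0 with rfl | hu0
        · simpa using hv
        rcases eq_or_ne v 0 with rfl | hv0
        · simpa using hu
        rw [show u + v = v * (u / v + 1) by field_simp]
        rcases eq_or_ne (u / v + 1) 0 with e | e
        · rw [e, mul_zero]; exact IsSquare.zero
        · exact hv.mul (hcon _ (div_ne_zero hu0 hv0) (hu.div hv) e)
      refine hn ?_
      rw [show n = ((n + 1) / 2) * ((n + 1) / 2) + -1 * (((n - 1) / 2) * ((n - 1) / 2)) by
        field_simp; ring]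
      exact hadd _ _ ⟨_, rfl⟩ (hneg.mul ⟨_, rfl⟩)
    -- conclude
    have hval := congrArg (fun S => ρ S (x : OnePoint F)) hAB
    have hx1 : σ x = 1 / x := hσsq x hx0 hxs
    have hy : 2 * b - 1 / x = -1 * (x + 1) / x := by rw [hbval]; field_simp; ring
    have hyne : 2 * b - 1 / x ≠ 0 := by
      rw [hy]; exact div_ne_zero (mul_ne_zero (neg_ne_zero.2 one_ne_zero) hxn0) hx0
    have hyns : ¬ IsSquare (2 * b - 1 / x) := by
      rw [hy]
      intro hs
      refine hxn ?_
      have : x + 1 = -1 * (-1 * (x + 1) / x) * x := by field_simp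
      rw [this]; exact (hneg.mul hs).mul hxs
    simp only [hA, hB, map_mul, Equiv.Perm.mul_apply, hT2, hσ _ hx0, hσ _ hxn0, hs0x, hx1,
      hσ _ hyne, OnePoint.coe_eq_coe, hσN _ hxn0 hxn, hσN _ hyne hyns] at hval
    rw [hy] at hval
    field_simp at hval
    have hc1 : c = 1 := mul_right_cancel₀ hxn0 (by linear_combination hval)
    refine ⟨z * t1, ?_, ?_, fun y hy0 => ?_⟩
    · rw [map_mul, Equiv.Perm.mul_apply, hi1, IsLineRep.torus_apply_zero]
    · rw [map_mul, Equiv.Perm.mul_apply, h01, IsLineRep.torus_apply_infty]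
    · rw [map_mul, Equiv.Perm.mul_apply, hσ y hy0, h.apply_torus, hz]
      congr 1
      by_cases hys : IsSquare y
      · rw [hσsq y hy0 hys]; ring
      · rw [hσN y hy0 hys, hc1]; ring
  · have hc' : ¬ IsSquare (τ 1) := by
      rintro ⟨r, hr⟩
      have hr0 : r ≠ 0 := by rintro rfl; exact hc (by simpa using hr)
      have key : ∀ x : F, x ≠ 0 → IsSquare x → x * x = τ 1 → False := fun x hx hxs hxx =>
        h.invol_fpf_odd hm htt ht1 (x : OnePoint F) (by
          rw [hτ x hx, hsq x hx hxs, ← hxx]; congr 1; field_simp)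
      by_cases hrs : IsSquare r
      · exact key r hr0 hrs hr.symm
      · refine key (-r) (neg_ne_zero.2 hr0) ?_ (by rw [hr]; ring)
        have hm1 : ¬ IsSquare (-1 : F) := fun e => hm (h.isSquare_neg_one_iff.1 e)
        have := h.isSquare_div_of_not hr0 (neg_ne_zero.2 one_ne_zero) hrs hm1
        rwa [div_neg, div_one] at this
    have hm1 : ¬ IsSquare (-1 : F) := fun e => hm (h.isSquare_neg_one_iff.1 e)
    have hq := h.isSquare_div_of_not (neg_ne_zero.2 one_ne_zero) hc hm1 hc'
    obtain ⟨g1, hg1⟩ := h.exists_torus_mult (div_ne_zero (neg_ne_zero.2 one_ne_zero) hc) hq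
    refine ⟨g1 * t, ?_, ?_, fun y hy0 => ?_⟩
    · rw [map_mul, Equiv.Perm.mul_apply, hti, IsLineRep.torus_apply_zero]
    · rw [map_mul, Equiv.Perm.mul_apply, ht0, IsLineRep.torus_apply_infty]
    · rw [map_mul, Equiv.Perm.mul_apply, hτ y hy0, h.apply_torus, hg1, hnon hc' y hy0]
      congr 1; field_simp

/-- The image of a line representation is the Moebius group. -/
theorem IsLineRep.range_eq (h : IsLineRep ρ m) : ρ.range = (mobius (F := F)).range := by
  choose T hT1 hT2 using h.transl
  obtain ⟨w, hwi, hw0, hw⟩ := h.exists_weyl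
  refine range_eq_mobius_range ρ (fun b => ⟨T b, ?_⟩) (fun r hr => ?_) ⟨w, ?_⟩ (fun g hg => ?_)
  · refine Equiv.ext fun x => ?_
    cases x with
    | infty => rw [mobius_sTrans_infty, hT1]
    | coe x => rw [mobius_sTrans_some, hT2]
  · obtain ⟨g, hg⟩ := h.exists_torus_mult (pow_ne_zero 2 hr) (IsSquare.sq r)
    refine ⟨g, Equiv.ext fun x => ?_⟩
    cases x with
    | infty => rw [mobius_sDiag_infty]; exact IsLineRep.torus_apply_infty g
    | coe x => rw [mobius_sDiag_some, h.apply_torus, hg]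
  · refine Equiv.ext fun x => ?_
    cases x with
    | infty => rw [mobius_sWeyl_infty, hwi]
    | coe x =>
      rw [mobius_sWeyl_some]
      split_ifs with hx
      · rw [hx, hw0]
      · exact hw x hx
  · obtain ⟨a, b, ha, hab⟩ := h.affine g hg
    have hmem : T (-b) * g ∈ torus ρ := by
      rw [IsLineRep.mem_torus, map_mul, Equiv.Perm.mul_apply, Equiv.Perm.mul_apply, hg, hT1, hab,
        hT2]
      simp
    have hma : h.mult ⟨_, hmem⟩ = a := h.mult_unique _ (by
      rw [map_mul, Equiv.Perm.mul_apply, hab, hT2]; congr 1; ring)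
    have hsq : IsSquare a := by
      rw [h.isSquare_iff_pow ha, ← hma]; exact h.pow_m_eq_one _
    obtain ⟨r, rfl⟩ := hsq
    have hr : r ≠ 0 := left_ne_zero_of_mul ha
    refine ⟨sTrans b * sDiag r hr, Equiv.ext fun x => ?_⟩
    rw [map_mul, Equiv.Perm.mul_apply]
    cases x with
    | infty => rw [mobius_sDiag_infty, mobius_sTrans_infty, hg]
    | coe x => rw [mobius_sDiag_some, mobius_sTrans_some, hab, pow_two]

/-- A finite simple group of order `p (p² - 1) / 2` with `p + 1` Sylow `p`-subgroups is `PSL(2, p)`. -/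
theorem nonempty_mulEquiv_psl_two_prime {G : Type*} [Group G] [Finite G] [IsSimpleGroup G]
    {p : ℕ} [hp : Fact p.Prime] (hp5 : 5 ≤ p) (hcard : 2 * Nat.card G = p * (p ^ 2 - 1))
    (hn : Nat.card (Sylow p G) = p + 1) {F : Type*} [Field F] [Fintype F] (hF : Fintype.card F = p) :
    Nonempty (G ≃* Matrix.ProjectiveSpecialLinearGroup (Fin 2) F) := by
  classical
  obtain ⟨m, hm⟩ := hp.out.odd_of_ne_two (by omega)
  subst hm
  have hk : (2 * m + 1) ^ 2 - 1 = 2 * (2 * m * (m + 1)) :=
    Nat.sub_eq_of_eq_add (by ring)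
  rw [hk, ← mul_assoc, mul_comm (2 * m + 1), mul_assoc] at hcard
  have hG : Nat.card G = (2 * m + 1) * (2 * m * (m + 1)) := Nat.eq_of_mul_eq_mul_left two_pos hcard
  have hnd : ¬ (2 * m + 1) ∣ 2 * m * (m + 1) := by
    rw [hp.out.dvd_mul]
    rintro (h | h) <;> have := Nat.le_of_dvd (by omega) h <;> omega
  obtain ⟨ρ, hinj, htr, htl, haff, hst⟩ := exists_line_rep hn default
    (card_sylow_eq_prime hG hnd _) hF
  have hFc : Nat.card F = 2 * m + 1 := by rw [Nat.card_eq_fintype_card, hF]
  refine nonempty_mulEquiv_psl_of_range_eq ρ hinj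
    (IsLineRep.range_eq (m := m) ⟨hinj, htr, htl, haff, ?_, hFc⟩)
  rw [hG] at hst
  rw [hFc]
  refine Nat.eq_of_mul_eq_mul_right (show 0 < 2 * m + 1 + 1 by omega) (hst.trans ?_)
  ring

/-- As `nonempty_mulEquiv_psl_two_prime`, the number of Sylow subgroups found by a divisor check. -/
theorem nonempty_mulEquiv_psl_two_prime' {G : Type*} [Group G] [Finite G] [IsSimpleGroup G]
    {p k : ℕ} [hp : Fact p.Prime] (hp5 : 5 ≤ p) (hcard : Nat.card G = p * k)
    (hk : 2 * k + 1 = p ^ 2) (hdiv : ∀ d ∈ k.divisors, d % p = 1 → d = 1 ∨ d = p + 1)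
    {F : Type*} [Field F] [Fintype F] (hF : Fintype.card F = p) :
    Nonempty (G ≃* Matrix.ProjectiveSpecialLinearGroup (Fin 2) F) := by
  have hk0 : k ≠ 0 := by rintro rfl; nlinarith
  have hnd : ¬ p ∣ k := fun h => hp.out.not_dvd_one <| by
    have h2 : p ∣ 2 * k + 1 := hk ▸ dvd_pow_self p two_ne_zero
    exact (Nat.dvd_add_right (dvd_mul_of_dvd_right h 2)).1 h2
  let P : Sylow p G := default
  have hP := card_sylow_eq_prime hcard hnd P
  refine nonempty_mulEquiv_psl_two_prime hp5 (by rw [hcard, ← hk, Nat.add_sub_cancel]; ring) ?_ hF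
  have hdvd : Nat.card (Sylow p G) ∣ k := by
    have h1 := P.card_dvd_index
    have h2 := Subgroup.card_mul_index (P : Subgroup G)
    rw [hP, hcard] at h2
    rwa [Nat.eq_of_mul_eq_mul_left hp.out.pos h2] at h1
  refine (hdiv _ (Nat.mem_divisors.2 ⟨hdvd, hk0⟩) ?_).resolve_left fun h1 => ?_
  · have := card_sylow_modEq_one p G
    rwa [Nat.ModEq, Nat.one_mod_eq_one.2 hp.out.ne_one] at this
  · have : Subsingleton (Sylow p G) := (Nat.card_eq_one_iff_unique.1 h1).1
    have hN : (P : Subgroup G).Normal := by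
      rw [← Subgroup.normalizer_eq_top_iff, eq_top_iff]
      intro g _
      exact Sylow.smul_eq_iff_mem_normalizer.1 (Subsingleton.elim _ _)
    rcases Subgroup.Normal.eq_bot_or_eq_top hN with h | h
    · rw [h, Subgroup.card_bot] at hP; omega
    · rw [h, Subgroup.card_top, hcard] at hP
      nlinarith

end Cfsg.Agent.H31
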