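import Mathlib
import Cfsg.Agent.H31.Simple168Subgroups

/-!
Maximal subgroups of a simple group of order 168.
-/

set_option autoImplicit false
set_option linter.unusedSectionVars false

namespace Cfsg.Agent.H31.Simple168

open scoped Pointwise

variable {G : Type*} [Group G] [Finite G] [IsSimpleGroup G]

/-- A subgroup normalises the image of its only Sylow `p`-subgroup. -/
theorem le_normalizer_of_unique {M : Subgroup G} {p : ℕ} [Fact p.Prime]
    (hM : Nat.card (Sylow p ↥M) = 1) (R : Sylow p ↥M) :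
    M ≤ Subgroup.normalizer ((((R : Subgroup ↥M).map M.subtype) : Subgroup G) : Set G) := by
  have : Subsingleton (Sylow p ↥M) := (Nat.card_eq_one_iff_unique.1 hM).1
  have hn : (R : Subgroup ↥M).Normal := Sylow.normal_of_subsingleton R
  intro m hm
  have key : ∀ a ∈ M, ∀ x ∈ (R : Subgroup ↥M).map M.subtype,
      a * x * a⁻¹ ∈ (R : Subgroup ↥M).map M.subtype := by
    rintro a ha _ ⟨r, hr, rfl⟩
    exact ⟨⟨a, ha⟩ * r * ⟨a, ha⟩⁻¹, hn.conj_mem r hr _, rfl⟩
  rw [Subgroup.mem_normalizer_iff]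
  refine fun x => ⟨key m hm x, fun hx => ?_⟩
  simpa [mul_assoc] using key m⁻¹ (inv_mem hm) _ hx

theorem card_subtype_map {M : Subgroup G} (R : Subgroup ↥M) :
    Nat.card ↥(R.map M.subtype) = Nat.card ↥R :=
  Nat.card_congr (R.equivMapOfInjective _ M.subtype_injective).symm.toEquiv

theorem card_normalizer_of_card_three (h : Nat.card G = 168) {R : Subgroup G}
    (hR : Nat.card ↥R = 3) : Nat.card ↥(Subgroup.normalizer (R : Set G)) = 6 := by
  obtain ⟨Q, hQ⟩ := (IsPGroup.of_card (p := 3) (n := 1)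
    (show Nat.card ↥R = 3 ^ 1 by rw [hR, pow_one])).exists_le_sylow
  rw [Subgroup.eq_of_le_of_card_ge hQ (by rw [card_sylow_three_group h Q, hR])]
  exact card_normalizer_three h Q

theorem card_normalizer_of_card_seven (h : Nat.card G = 168) {R : Subgroup G}
    (hR : Nat.card ↥R = 7) : Nat.card ↥(Subgroup.normalizer (R : Set G)) = 21 := by
  obtain ⟨Q, hQ⟩ := (IsPGroup.of_card (p := 7) (n := 1)
    (show Nat.card ↥R = 7 ^ 1 by rw [hR, pow_one])).exists_le_sylow
  rw [Subgroup.eq_of_le_of_card_ge hQ (by rw [card_sylow_seven_group h Q, hR])]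
  exact card_normalizer_seven h Q

theorem not_normalizer_cyclic (h : Nat.card G = 168) {M : Subgroup G} {g : G} (hg : orderOf g = 4)
    (hM : M ≤ Subgroup.normalizer (Subgroup.zpowers g : Set G)) : Nat.card ↥M ∣ 8 := by
  obtain ⟨S, hS⟩ := (IsPGroup.of_card (p := 2) (n := 2)
    (show Nat.card ↥(Subgroup.zpowers g) = 2 ^ 2 by rw [Nat.card_zpowers, hg]; rfl)).exists_le_sylow
  obtain ⟨D⟩ := nonempty_gens h S
  have hgS : g ∈ (S : Subgroup G) := hS (Subgroup.mem_zpowers g)
  rw [← card_sylow_two_group h S]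
  refine Subgroup.card_dvd_of_le fun m hm => ?_
  have hm' : m * g * m⁻¹ ∈ Subgroup.zpowers g :=
    (Subgroup.mem_normalizer_iff.1 (hM hm) g).1 (Subgroup.mem_zpowers g)
  have hcS : ∀ a : G, a * D.c = D.c * a → a ∈ (S : Subgroup G) := fun a ha => by
    rw [← D.centralizer_sq, Subgroup.mem_centralizer_singleton_iff]
    exact ((show Commute a D.c from ha).pow_right 2).eq
  have hgc : Subgroup.zpowers g = Subgroup.zpowers D.c := by
    rcases D.four g hgS hg with e | e
    · rw [e]
    · rw [e, Subgroup.zpowers_inv]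
  rw [hgc] at hm'
  have hmc : m * D.c * m⁻¹ ∈ (S : Subgroup G) := by
    have : m * D.c * m⁻¹ ∈ Subgroup.zpowers D.c :=
      (Subgroup.mem_normalizer_iff.1 (hgc ▸ hM hm) D.c).1 (Subgroup.mem_zpowers _)
    exact Subgroup.zpowers_le.2 D.c_mem this
  rcases D.four _ hmc (by rw [orderOf_conj_eq, D.order_c]) with e | e
  · exact hcS m (mul_inv_eq_iff_eq_mul.1 e)
  · have hwm : D.w * m ∈ (S : Subgroup G) := hcS _ (mul_inv_eq_iff_eq_mul.1 (by
      calc D.w * m * D.c * (D.w * m)⁻¹ = D.w * (m * D.c * m⁻¹) * D.w⁻¹ := by group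
        _ = (D.w * D.c * D.w⁻¹)⁻¹ := by rw [e]; group
        _ = D.c := by rw [D.conj, inv_inv]))
    exact (Subgroup.mul_mem_cancel_left _ D.w_mem).1 hwm

theorem isCoatom_of_card_24 (h : Nat.card G = 168) {M : Subgroup G} (hM : Nat.card ↥M = 24) :
    IsCoatom M := by
  refine ⟨fun e => by rw [e, Subgroup.card_top, h] at hM; norm_num at hM, fun K hK => ?_⟩
  by_contra hne
  have h7 := no_subgroup_fiftysix h K hne
  have hmul := Subgroup.card_mul_index K
  rw [h] at hmul
  have hle : Nat.card ↥K ≤ 24 := by nlinarith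
  exact hK.ne (Subgroup.eq_of_le_of_card_ge hK.le (by omega))

theorem not_mulComm_21 (h : Nat.card G = 168) {M : Subgroup G} (hM : Nat.card ↥M = 21) :
    ¬ IsMulCommutative ↥M := by
  intro hc
  obtain ⟨x, hx⟩ := exists_prime_orderOf_dvd_card' (G := ↥M) 7 (by rw [hM]; norm_num)
  rw [← Subgroup.orderOf_coe] at hx
  have hle : M ≤ Subgroup.zpowers (x : G) := fun y hy => by
    rw [← centralizer_seven h hx, Subgroup.mem_centralizer_singleton_iff]
    exact congrArg Subtype.val (hc.is_comm.comm ⟨y, hy⟩ x)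
  have := Subgroup.card_le_of_le hle
  rw [hM, Nat.card_zpowers, hx] at this
  omega

theorem eq_normalizer_21 (h : Nat.card G = 168) {M : Subgroup G} (hM : Nat.card ↥M = 21) :
    ∃ Q : Sylow 7 G, M = Subgroup.normalizer ((Q : Subgroup G) : Set G) := by
  have hn : Nat.card (Sylow 7 ↥M) = 1 := by
    have hall : ∀ j ∈ Nat.divisors 3, j % 7 = 1 → j = 1 := by decide +kernel
    exact hall _ (Nat.mem_divisors.2 ⟨Cfsg.Agent.H30.card_sylow_dvd (p := 7) (a := 1) (m := 3)
      (by rw [hM]; norm_num) (by norm_num), by norm_num⟩) (card_sylow_modEq_one 7 ↥M)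
  let R : Sylow 7 ↥M := default
  have hR : Nat.card ↥((R : Subgroup ↥M).map M.subtype) = 7 := by
    rw [card_subtype_map]; exact card_sylow_eq_prime (k := 3) hM (by norm_num) R
  obtain ⟨Q, hQ⟩ := (IsPGroup.of_card (p := 7) (n := 1)
    (show Nat.card ↥((R : Subgroup ↥M).map M.subtype) = 7 ^ 1 by
      rw [hR, pow_one])).exists_le_sylow
  refine ⟨Q, Subgroup.eq_of_le_of_card_ge ?_ (by rw [card_normalizer_seven h Q, hM])⟩
  rw [← Subgroup.eq_of_le_of_card_ge hQ (by rw [card_sylow_seven_group h Q, hR])]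
  exact le_normalizer_of_unique hn R

theorem conj_21 (h : Nat.card G = 168) {M M' : Subgroup G} (hM : Nat.card ↥M = 21)
    (hM' : Nat.card ↥M' = 21) : ∃ g : G, M' = M.map (MulAut.conj g).toMonoidHom := by
  obtain ⟨Q, rfl⟩ := eq_normalizer_21 h hM
  obtain ⟨Q', rfl⟩ := eq_normalizer_21 h hM'
  obtain ⟨g, hg⟩ := MulAction.exists_smul_eq G Q Q'
  refine ⟨g, ?_⟩
  rw [← normalizer_map_conj, ← hg, Sylow.coe_subgroup_smul]
  rfl

/-- A coatom is strictly contained in no proper subgroup. -/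
theorem coatom_absurd {M K : Subgroup G} (hM : IsCoatom M) (hle : M ≤ K) (hK : K ≠ ⊤) : M = K := by
  by_contra hne
  exact hK (hM.2 K (lt_of_le_of_ne hle hne))

/-- A subgroup of order six lies in the normaliser of a four-group. -/
theorem normalizer_three_le (h : Nat.card G = 168) {R : Subgroup G} (hR : Nat.card ↥R = 3) :
    ∃ U : Subgroup G, IsKleinFour ↥U ∧
      Subgroup.normalizer (R : Set G) ≤ Subgroup.normalizer (U : Set G) := by
  obtain ⟨D⟩ := nonempty_gens h (default : Sylow 2 G)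
  have hK := D.klein_fourGroup D.w_mem D.w_not_mem
  set U₀ := fourGroup (default : Sylow 2 G) D.w with hU₀
  set M := Subgroup.normalizer (U₀ : Set G) with hMdef
  have hM : Nat.card ↥M = 24 := card_normalizer_four h hK
  obtain ⟨x, hx⟩ := exists_prime_orderOf_dvd_card' (G := ↥M) 3 (by rw [hM]; norm_num)
  rw [← Subgroup.orderOf_coe] at hx
  obtain ⟨r, hr⟩ := exists_prime_orderOf_dvd_card' (G := ↥R) 3 (by rw [hR])
  rw [← Subgroup.orderOf_coe] at hr
  obtain ⟨g, hg⟩ := isConj_iff.1 (isConj_order_three h hx hr)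
  refine ⟨U₀.map (MulAut.conj g).toMonoidHom, klein_map hK g, ?_⟩
  have hM' : Nat.card ↥(M.map (MulAut.conj g).toMonoidHom) = 24 := by
    rw [Nat.card_congr (M.equivMapOfInjective _ (MulAut.conj g).injective).symm.toEquiv, hM]
  rw [normalizer_map_conj]
  set M' := M.map (MulAut.conj g).toMonoidHom with hM'def
  have hRM : R ≤ M' := by
    have hEq : Subgroup.zpowers (r : G) = R :=
      Subgroup.eq_of_le_of_card_ge (Subgroup.zpowers_le.2 r.2) (by rw [Nat.card_zpowers, hr, hR])
    rw [← hEq, Subgroup.zpowers_le]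
    exact ⟨x, x.2, hg⟩
  -- the normaliser of a Sylow 3-subgroup of `M'` has order six
  have hR' : Nat.card ↥(R.subgroupOf M') = 3 := by
    rw [Nat.card_congr (Subgroup.subgroupOfEquivOfLe hRM).toEquiv, hR]
  obtain ⟨P, hP⟩ := (IsPGroup.of_card (p := 3) (n := 1)
    (show Nat.card ↥(R.subgroupOf M') = 3 ^ 1 by rw [hR', pow_one])).exists_le_sylow
  have hPR : R.subgroupOf M' = (P : Subgroup ↥M') := Subgroup.eq_of_le_of_card_ge hP
    (by rw [card_sylow_eq_prime (k := 8) hM' (by norm_num) P, hR'])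
  have hle : (Subgroup.normalizer ((P : Subgroup ↥M') : Set ↥M')).map M'.subtype ≤
      Subgroup.normalizer (R : Set G) := by
    refine (Subgroup.le_normalizer_map _).trans (le_of_eq ?_)
    rw [← hPR, Subgroup.map_subgroupOf_eq_of_le hRM]
  have hcle := Subgroup.card_le_of_le hle
  rw [card_subtype_map, card_normalizer_of_card_three h hR] at hcle
  have hmul := Cfsg.Agent.H30.card_sylow_mul_normalizer 3 P
  rw [hM'] at hmul
  have hd := Cfsg.Agent.H30.card_sylow_dvd (G := ↥M') (p := 3) (a := 1) (m := 8)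
    (by rw [hM']; norm_num) (by norm_num)
  have hmod := card_sylow_modEq_one 3 ↥M'
  rw [Nat.ModEq] at hmod
  have h8 := Nat.le_of_dvd (by norm_num) hd
  have h6 : Nat.card ↥(Subgroup.normalizer ((P : Subgroup ↥M') : Set ↥M')) = 6 := by
    interval_cases hi : Nat.card (Sylow 3 ↥M') <;> omega
  have hEq := Subgroup.eq_of_le_of_card_ge hle
    (by rw [card_subtype_map, h6, card_normalizer_of_card_three h hR])
  rw [← hEq]
  exact Subgroup.map_subtype_le _

/-- A subgroup of order twelve normalises a four-group. -/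
theorem twelve_le (h : Nat.card G = 168) {M : Subgroup G} (hM : Nat.card ↥M = 12) :
    ∃ U : Subgroup G, IsKleinFour ↥U ∧ M ≤ Subgroup.normalizer (U : Set G) := by
  classical
  have h3c : ∀ P : Sylow 3 ↥M, Nat.card ↥(P : Subgroup ↥M) = 3 := fun P =>
    card_sylow_eq_prime (k := 4) hM (by norm_num) P
  have hn3 : Nat.card (Sylow 3 ↥M) = 4 := by
    have hall : ∀ j ∈ Nat.divisors 4, j % 3 = 1 → j = 1 ∨ j = 4 := by decide +kernel
    refine (hall _ (Nat.mem_divisors.2 ⟨Cfsg.Agent.H30.card_sylow_dvd (p := 3) (a := 1) (m := 4)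
      (by rw [hM]; norm_num) (by norm_num), by norm_num⟩)
      (card_sylow_modEq_one 3 ↥M)).resolve_left fun h1 => ?_
    have hle := Subgroup.card_le_of_le (le_normalizer_of_unique h1 (default : Sylow 3 ↥M))
    rw [hM, card_normalizer_of_card_three h (R := ((default : Sylow 3 ↥M) : Subgroup ↥M).map M.subtype)
      (by rw [card_subtype_map, h3c])] at hle
    omega
  have hcount : Nat.card {g : ↥M // orderOf g ≠ 3} = 4 := by
    have e1 := card_orderOf_eq_prime (default : Sylow 3 ↥M) (h3c _)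
    rw [hn3] at e1
    have := Fintype.ofFinite ↥M
    rw [Nat.card_eq_fintype_card] at e1 hM
    rw [Nat.card_eq_fintype_card, Fintype.card_subtype_compl, hM, e1]
  have h2c : ∀ R : Sylow 2 ↥M, Nat.card ↥(R : Subgroup ↥M) = 4 := fun R => by
    simpa using Cfsg.Agent.H30.card_sylow_subgroup (a := 2) (m := 3) R (by rw [hM]; norm_num)
      (by norm_num)
  have hset : ∀ R : Sylow 2 ↥M, ((R : Subgroup ↥M) : Set ↥M) = {g | orderOf g ≠ 3} := fun R => by
    refine Set.eq_of_subset_of_ncard_le (fun g hg e => ?_) ?_ (Set.toFinite _)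
    · have := orderOf_dvd_natCard (⟨g, hg⟩ : ↥(R : Subgroup ↥M))
      rw [Subgroup.orderOf_mk, e, h2c] at this
      norm_num at this
    · rw [← Nat.card_coe_set_eq, ← Nat.card_coe_set_eq]
      exact hcount.le.trans (h2c R).ge
  have h1 : Nat.card (Sylow 2 ↥M) = 1 := Nat.card_eq_one_iff_unique.2
    ⟨⟨fun A B => Sylow.ext (SetLike.coe_injective ((hset A).trans (hset B).symm))⟩, inferInstance⟩
  let R : Sylow 2 ↥M := default
  have hle := le_normalizer_of_unique h1 R
  set U := (R : Subgroup ↥M).map M.subtype with hU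
  have hU4 : Nat.card ↥U = 4 := by rw [hU, card_subtype_map, h2c]
  refine ⟨U, isKleinFour_of _ hU4 fun g hg => ?_, hle⟩
  have hd := orderOf_dvd_natCard (⟨g, hg⟩ : ↥U)
  rw [Subgroup.orderOf_mk, hU4] at hd
  by_cases h4 : orderOf g = 4
  · exfalso
    have hEq : Subgroup.zpowers g = U := Subgroup.eq_of_le_of_card_ge (Subgroup.zpowers_le.2 hg)
      (by rw [Nat.card_zpowers, h4, hU4])
    have := not_normalizer_cyclic h h4 (hEq ▸ hle)
    rw [hM] at this
    norm_num at this
  · rw [← pow_two]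
    refine orderOf_dvd_iff_pow_eq_one.1 ?_
    have := Nat.le_of_dvd (by norm_num) hd
    interval_cases hx : orderOf g <;> omega

theorem coatom_card (h : Nat.card G = 168) {M : Subgroup G} (hM : IsCoatom M) :
    Nat.card ↥M = 24 ∨ Nat.card ↥M = 21 := by
  by_contra hne
  push Not at hne
  have h7 := no_subgroup_fiftysix h M hM.1
  have hmul := Subgroup.card_mul_index M
  rw [h] at hmul
  have hle : Nat.card ↥M ≤ 24 := by nlinarith
  have hd : Nat.card ↥M ∈ Nat.divisors 168 :=
    Nat.mem_divisors.2 ⟨h ▸ M.card_subgroup_dvd_card, by norm_num⟩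
  have hfour : ∀ {U : Subgroup G}, IsKleinFour ↥U → M ≤ Subgroup.normalizer (U : Set G) → False := by
    intro U hU hle'
    have hc := card_normalizer_four h hU
    have hEq := coatom_absurd hM hle' (isCoatom_of_card_24 h hc).1
    exact hne.1 (hEq ▸ hc)
  have hall : ∀ n ∈ Nat.divisors 168, n ≤ 24 → n ≠ 24 → n ≠ 21 →
      n = 1 ∨ n = 2 ∨ n = 4 ∨ n = 8 ∨ n = 3 ∨ n = 6 ∨ n = 7 ∨ n = 14 ∨ n = 12 := by decide +kernel
  have h2grp : (∃ k, Nat.card ↥M = 2 ^ k) → False := by
    rintro ⟨k, hk⟩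
    obtain ⟨T, hT⟩ := (IsPGroup.of_card (p := 2) (n := k) hk).exists_le_sylow
    obtain ⟨D⟩ := nonempty_gens h T
    exact hfour (D.klein_fourGroup D.w_mem D.w_not_mem)
      (hT.trans (sylow_le_normalizer h inf_le_left (D.klein_fourGroup D.w_mem D.w_not_mem)))
  have h7grp : ∀ m, Nat.card ↥M = 7 * m → ¬ 7 ∣ m → m ≤ 2 → False := by
    intro m hm hm7 hm2
    have hn : Nat.card (Sylow 7 ↥M) = 1 := by
      have hdm := Cfsg.Agent.H30.card_sylow_dvd (G := ↥M) (p := 7) (a := 1) (m := m)
        (by rw [hm, pow_one]) hm7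
      have hmod := card_sylow_modEq_one 7 ↥M
      rw [Nat.ModEq] at hmod
      have := Nat.le_of_dvd (by omega) hdm
      omega
    let R : Sylow 7 ↥M := default
    have hR : Nat.card ↥((R : Subgroup ↥M).map M.subtype) = 7 := by
      rw [card_subtype_map]; exact card_sylow_eq_prime (k := m) hm hm7 R
    have hle' := le_normalizer_of_unique hn R
    have hc := card_normalizer_of_card_seven h hR
    have hEq := coatom_absurd hM hle' fun e => by
      rw [e, Subgroup.card_top, h] at hc; norm_num at hc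
    exact hne.2 (hEq ▸ hc)
  have h3grp : ∀ m, Nat.card ↥M = 3 * m → ¬ 3 ∣ m → m ≤ 2 → False := by
    intro m hm hm3 hm2
    have hn : Nat.card (Sylow 3 ↥M) = 1 := by
      have hdm := Cfsg.Agent.H30.card_sylow_dvd (G := ↥M) (p := 3) (a := 1) (m := m)
        (by rw [hm, pow_one]) hm3
      have hmod := card_sylow_modEq_one 3 ↥M
      rw [Nat.ModEq] at hmod
      have := Nat.le_of_dvd (by omega) hdm
      omega
    let R : Sylow 3 ↥M := default
    obtain ⟨U, hU, hUle⟩ := normalizer_three_le h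
      (R := (R : Subgroup ↥M).map M.subtype)
      (by rw [card_subtype_map]; exact card_sylow_eq_prime (k := m) hm hm3 R)
    exact hfour hU ((le_normalizer_of_unique hn R).trans hUle)
  rcases hall _ hd hle hne.1 hne.2 with e | e | e | e | e | e | e | e | e
  · exact h2grp ⟨0, e⟩
  · exact h2grp ⟨1, e⟩
  · exact h2grp ⟨2, e⟩
  · exact h2grp ⟨3, e⟩
  · exact h3grp 1 e (by norm_num) (by norm_num)
  · exact h3grp 2 e (by norm_num) (by norm_num)
  · exact h7grp 1 e (by norm_num) (by norm_num)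
  · exact h7grp 2 e (by norm_num) (by norm_num)
  · obtain ⟨U, hU, hle'⟩ := twelve_le h e
    exact hfour hU hle'

theorem coatom_cases (h : Nat.card G = 168) {M : Subgroup G} (hM : IsCoatom M) :
    Nonempty (↥M ≃* Equiv.Perm (Fin 4)) ∨ (Nat.card ↥M = 21 ∧ ¬ IsMulCommutative ↥M) :=
  (coatom_card h hM).imp (iso_s4 h) fun e => ⟨e, not_mulComm_21 h e⟩

theorem two_classes (h : Nat.card G = 168) :
    ∃ M₁ M₂ : Subgroup G, IsCoatom M₁ ∧ IsCoatom M₂ ∧
      Nonempty (↥M₁ ≃* Equiv.Perm (Fin 4)) ∧ Nonempty (↥M₂ ≃* Equiv.Perm (Fin 4)) ∧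
      (∀ g : G, M₂ ≠ M₁.map (MulAut.conj g).toMonoidHom) ∧
      ∀ M : Subgroup G, IsCoatom M → Nonempty (↥M ≃* Equiv.Perm (Fin 4)) →
        ∃ g : G, M = M₁.map (MulAut.conj g).toMonoidHom ∨
          M = M₂.map (MulAut.conj g).toMonoidHom := by
  obtain ⟨D⟩ := nonempty_gens h (default : Sylow 2 G)
  have hK1 := D.klein_fourGroup D.w_mem D.w_not_mem
  have hK2 := D.klein_fourGroup (mul_mem D.c_mem D.w_mem) D.cw_not_mem
  refine ⟨Subgroup.normalizer (fourGroup (default : Sylow 2 G) D.w : Set G),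
    Subgroup.normalizer (fourGroup (default : Sylow 2 G) (D.c * D.w) : Set G),
    isCoatom_of_card_24 h (card_normalizer_four h hK1),
    isCoatom_of_card_24 h (card_normalizer_four h hK2),
    iso_s4 h (card_normalizer_four h hK1), iso_s4 h (card_normalizer_four h hK2),
    fun g e => ?_, fun M _ hMi => ?_⟩
  · rw [← normalizer_map_conj] at e
    exact not_conj_fours h inf_le_left inf_le_left hK1 hK2 D.fourGroup_ne g
      (normalizer_four_inj h (klein_map hK1 g) hK2 e.symm)
  · obtain ⟨i⟩ := hMi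
    have hM24 : Nat.card ↥M = 24 := by
      rw [Nat.card_congr i.toEquiv, Nat.card_eq_fintype_card, Fintype.card_perm, Fintype.card_fin]
      rfl
    obtain ⟨U, hU, rfl⟩ := exists_four_of_card h hM24
    obtain ⟨T, hT⟩ := exists_sylow_ge U hU
    obtain ⟨g, hg⟩ := MulAction.exists_smul_eq G T (default : Sylow 2 G)
    have hle : U.map (MulAut.conj g).toMonoidHom ≤ ((default : Sylow 2 G) : Subgroup G) := by
      rw [← hg, Sylow.coe_subgroup_smul]
      exact Subgroup.map_mono hT
    have key : ∀ W : Subgroup G, U.map (MulAut.conj g).toMonoidHom = W →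
        Subgroup.normalizer (U : Set G) =
          (Subgroup.normalizer (W : Set G)).map (MulAut.conj g⁻¹).toMonoidHom := by
      intro W hW
      rw [← hW, ← normalizer_map_conj, map_conj_mul, inv_mul_cancel,
        map_conj_eq_self (one_mem _)]
    refine ⟨g⁻¹, ?_⟩
    exact (D.fourGroup_cases hle (klein_map hU g)).imp (key _) (key _)

end Cfsg.Agent.H31.Simple168
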