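import Mathlib
import Cfsg.Agent.H30.Basics
import Cfsg.Agent.H31.SylowPrime
import Cfsg.Agent.H31.CommutingPerm
import Cfsg.Agent.H31.Simple168Maximal

/-!
Local structure of a simple group of order 504.
-/

set_option autoImplicit false
set_option linter.unusedSectionVars false

namespace Cfsg.Agent.H31.Simple504

open scoped Pointwise

instance fact2 : Fact (Nat.Prime 2) := ⟨Nat.prime_two⟩
instance fact3 : Fact (Nat.Prime 3) := ⟨Nat.prime_three⟩
instance fact7 : Fact (Nat.Prime 7) := ⟨by norm_num⟩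

variable {G : Type*} [Group G] [Finite G] [IsSimpleGroup G]

theorem not_comm (h : Nat.card G = 504) : ¬ IsMulCommutative G :=
  Cfsg.Agent.H30.not_comm_of_not_prime (by rw [h]; norm_num)

theorem card_sylow_seven_group (h : Nat.card G = 504) (Q : Sylow 7 G) :
    Nat.card ↥(Q : Subgroup G) = 7 := card_sylow_eq_prime (k := 72) h (by norm_num) Q

theorem card_sylow_three_group (h : Nat.card G = 504) (Q : Sylow 3 G) :
    Nat.card ↥(Q : Subgroup G) = 9 := by
  simpa using Cfsg.Agent.H30.card_sylow_subgroup (a := 2) (m := 56) Q (by rw [h]; norm_num)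
    (by norm_num)

theorem card_sylow_two_group (h : Nat.card G = 504) (Q : Sylow 2 G) :
    Nat.card ↥(Q : Subgroup G) = 8 := by
  simpa using Cfsg.Agent.H30.card_sylow_subgroup (a := 3) (m := 63) Q (by rw [h]; norm_num)
    (by norm_num)

theorem comm_sylow_three (h : Nat.card G = 504) (Q : Sylow 3 G) {a b : G}
    (ha : a ∈ (Q : Subgroup G)) (hb : b ∈ (Q : Subgroup G)) : a * b = b * a := by
  have hc : IsMulCommutative ↥(Q : Subgroup G) :=
    IsPGroup.isMulCommutative_of_card_eq_prime_sq (p := 3) (by rw [card_sylow_three_group h Q]; rfl)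
  exact congrArg Subtype.val (hc.is_comm.comm ⟨a, ha⟩ ⟨b, hb⟩)

theorem ker_eq_bot {H : Subgroup G} (hH : H ≠ ⊤) : (MulAction.toPermHom G (G ⧸ H)).ker = ⊥ := by
  rcases (MonoidHom.normal_ker (MulAction.toPermHom G (G ⧸ H))).eq_bot_or_eq_top with e | e
  · exact e
  · exfalso
    refine hH ((Subgroup.eq_top_iff' H).2 fun g => ?_)
    have hg : MulAction.toPermHom G (G ⧸ H) g = 1 := MonoidHom.mem_ker.1 (e ▸ Subgroup.mem_top g)
    have h1 := congrArg (fun σ => σ ((1 : G) : G ⧸ H)) hg
    simp only [MulAction.toPermHom_apply, MulAction.toPerm_apply, Equiv.Perm.one_apply] at h1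
    rw [MulAction.Quotient.smul_coe, smul_eq_mul, mul_one, QuotientGroup.eq] at h1
    simpa using h1

theorem sign_eq_one (h : Nat.card G = 504) {Ω : Type*} [Fintype Ω] [DecidableEq Ω]
    (ρ : G →* Equiv.Perm Ω) (g : G) : Equiv.Perm.sign (ρ g) = 1 := by
  rcases (MonoidHom.normal_ker (Equiv.Perm.sign.comp ρ)).eq_bot_or_eq_top with e | e
  · exfalso
    have := Nat.card_le_card_of_injective _ ((MonoidHom.ker_eq_bot_iff (Equiv.Perm.sign.comp ρ)).1 e)
    rw [h, Nat.card_eq_fintype_card, Fintype.card_units_int] at this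
    omega
  · exact (MonoidHom.mem_ker (f := Equiv.Perm.sign.comp ρ)).1 (e ▸ Subgroup.mem_top g)

theorem card_seven (h : Nat.card G = 504) : Nat.card (Sylow 7 G) = 36 := by
  classical
  have hall : ∀ j ∈ Nat.divisors 72, j % 7 = 1 → j = 1 ∨ j = 8 ∨ j = 36 := by decide +kernel
  rcases hall _ (Nat.mem_divisors.2 ⟨Cfsg.Agent.H30.card_sylow_dvd (a := 1) (m := 72)
    (by rw [h]; norm_num) (by norm_num), by norm_num⟩) (card_sylow_modEq_one 7 G) with e | e | e
  · exact absurd e (Cfsg.Agent.H30.card_sylow_ne_one (not_comm h) 7 (by rw [h]; norm_num))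
  · exfalso
    let P : Sylow 7 G := default
    obtain ⟨f, c, hf, hf1, hNe, hCe⟩ := Cfsg.Agent.H30.exists_automizer_of_prime_order (not_comm h) 7 P
      (card_sylow_seven_group h P)
    have hN := Cfsg.Agent.H30.card_sylow_mul_normalizer 7 P
    rw [e, h] at hN
    have hN63 : Nat.card ↥(Subgroup.normalizer ((P : Subgroup G) : Set G)) = 63 := by omega
    rw [hN63, mul_assoc] at hNe
    have hce : c * f = 9 := by omega
    have hf3 : f = 3 ∧ c = 3 := by
      have h6 := Nat.le_of_dvd (by norm_num) hf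
      have : c * f = 9 := hce
      interval_cases f <;> omega
    have hC3 : 3 ∣ Nat.card ↥(Subgroup.centralizer ((P : Subgroup G) : Set G)) := by
      rw [hCe, hf3.2]; norm_num
    obtain ⟨y, hy⟩ := exists_prime_orderOf_dvd_card' 3 hC3
    rw [← Subgroup.orderOf_coe] at hy
    obtain ⟨u, hu⟩ := exists_prime_orderOf_dvd_card' (G := ↥(P : Subgroup G)) 7
      (by rw [card_sylow_seven_group h P])
    rw [← Subgroup.orderOf_coe] at hu
    set H := Subgroup.normalizer ((P : Subgroup G) : Set G) with hH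
    have hidx : Nat.card (G ⧸ H) = 8 := by
      have := Subgroup.card_mul_index H
      rw [hN63, h] at this
      change H.index = 8
      omega
    have hHt : H ≠ ⊤ := fun e' => by rw [e', Subgroup.card_top, h] at hN63; norm_num at hN63
    let _ := Fintype.ofFinite (G ⧸ H)
    set ρ := MulAction.toPermHom G (G ⧸ H) with hρ
    have hinj : Function.Injective ρ := (MonoidHom.ker_eq_bot_iff ρ).1 (ker_eq_bot hHt)
    have hu1 : (ρ (u : G)) ^ 7 = 1 := by rw [← map_pow, orderOf_dvd_iff_pow_eq_one.1 hu.dvd, map_one]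
    have hy1 : (ρ (y : G)) ^ 3 = 1 := by rw [← map_pow, orderOf_dvd_iff_pow_eq_one.1 hy.dvd, map_one]
    have hcm : Commute (ρ (u : G)) (ρ (y : G)) :=
      (show Commute (u : G) (y : G) from Subgroup.mem_centralizer_iff.1 y.2 _ u.2).map ρ
    have hune : ρ (u : G) ≠ 1 := fun e' => by
      rw [← map_one ρ] at e'
      rw [hinj e', orderOf_one] at hu; norm_num at hu
    have h7 : 7 ≤ (ρ (u : G)).support.card := by
      refine Nat.le_of_dvd (Finset.card_pos.2 ?_) (dvd_card_of_invariant hu1 _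
        (mem_support_of_commute (Commute.refl _)) fun x hx => Equiv.Perm.mem_support.1 hx)
      exact Finset.nonempty_iff_ne_empty.2 fun e' => hune (Equiv.Perm.support_eq_empty_iff.1 e')
    have hy0 : ρ (y : G) = 1 := by
      refine eq_one_of_commute_prime (p := 7) (r := 3) (by norm_num) hu1 hy1 hcm ?_
        (by rw [← Nat.card_eq_fintype_card, hidx]; norm_num)
      intro x hx
      by_contra hne
      -- a fixed point of `u` is unique
      have hx' : ρ (u : G) (ρ (y : G) x) = ρ (y : G) x := by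
        rw [← Equiv.Perm.mul_apply, hcm.eq, Equiv.Perm.mul_apply, hx]
      have hsub : (ρ (u : G)).support ⊆ Finset.univ \ {x, ρ (y : G) x} := fun z hz => by
        rw [Equiv.Perm.mem_support] at hz
        simp only [Finset.mem_sdiff, Finset.mem_univ, true_and, Finset.mem_insert, Finset.mem_singleton]
        rintro (rfl | rfl)
        · exact hz hx
        · exact hz hx'
      have := Finset.card_le_card hsub
      rw [Finset.card_sdiff_of_subset (Finset.subset_univ _),
        Finset.card_pair (Ne.symm hne), Finset.card_univ, ← Nat.card_eq_fintype_card, hidx] at this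
      omega
    rw [← map_one ρ] at hy0
    rw [hinj hy0, orderOf_one] at hy
    norm_num at hy
  · exact e

theorem card_normalizer_seven (h : Nat.card G = 504) (Q : Sylow 7 G) :
    Nat.card ↥(Subgroup.normalizer ((Q : Subgroup G) : Set G)) = 14 := by
  have := Cfsg.Agent.H30.card_sylow_mul_normalizer 7 Q
  rw [card_seven h, h] at this
  omega

/-- Elements of order seven are self-centralising. -/
theorem centralizer_seven (h : Nat.card G = 504) {x : G} (hx : orderOf x = 7) :
    Subgroup.centralizer ({x} : Set G) = Subgroup.zpowers x := by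
  obtain ⟨Q, hQ⟩ := exists_sylow_eq_zpowers (default : Sylow 7 G) (card_sylow_seven_group h _) hx
  obtain ⟨e, c, he, he1, hNe, hCe⟩ := Cfsg.Agent.H30.exists_automizer_of_prime_order (not_comm h) 7 Q
    (card_sylow_seven_group h Q)
  rw [card_normalizer_seven h Q, mul_assoc] at hNe
  have hc : c = 1 := by
    have he2 : c * e = 2 := by omega
    rcases (Nat.dvd_prime Nat.prime_two).1 (Dvd.intro e he2) with hc | hc
    · exact hc
    · subst hc; omega
  refine (Subgroup.eq_of_le_of_card_ge ?_ (le_of_eq ?_)).symm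
  · rw [Subgroup.zpowers_le]; exact Subgroup.mem_centralizer_singleton_iff.2 rfl
  · rw [← Subgroup.centralizer_closure, ← Subgroup.zpowers_eq_closure, ← hQ, hCe, hc,
      card_sylow_seven_group h Q]

/-- An element of order seven is inverted by an involution. -/
theorem exists_inverting (h : Nat.card G = 504) :
    ∃ u t : G, orderOf u = 7 ∧ orderOf t = 2 ∧ t * u * t⁻¹ = u⁻¹ := by
  let Q : Sylow 7 G := default
  obtain ⟨u, hu⟩ := exists_prime_orderOf_dvd_card' (G := ↥(Q : Subgroup G)) 7
    (by rw [card_sylow_seven_group h Q])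
  rw [← Subgroup.orderOf_coe] at hu
  obtain ⟨t, ht⟩ := exists_prime_orderOf_dvd_card'
    (G := ↥(Subgroup.normalizer ((Q : Subgroup G) : Set G))) 2
    (by rw [card_normalizer_seven h Q]; norm_num)
  rw [← Subgroup.orderOf_coe] at ht
  refine ⟨u, t, hu, ht, ?_⟩
  set e := (t : G) * u * (t : G)⁻¹ with he
  have heQ : e ∈ (Q : Subgroup G) := (Subgroup.mem_normalizer_iff.1 t.2 _).1 u.2
  have hQu : Subgroup.zpowers (u : G) = (Q : Subgroup G) := Subgroup.eq_of_le_of_card_ge
    (Subgroup.zpowers_le.2 u.2) (by rw [Nat.card_zpowers, hu, card_sylow_seven_group h Q])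
  have hcomm : e * u = u * e := by
    have := heQ
    rw [← hQu, ← centralizer_seven h hu, Subgroup.mem_centralizer_singleton_iff] at this
    exact this
  have htt : (t : G) * t = 1 := by rw [← pow_two, ← ht, pow_orderOf_eq_one]
  have hte : (t : G) * e * (t : G)⁻¹ = u := by
    rw [he, show (t : G) * (t * u * (t : G)⁻¹) * (t : G)⁻¹ = (t * t) * u * ((t : G) * t)⁻¹ by group,
      htt, one_mul, inv_one, mul_one]
  have hfix : (t : G) * (u * e) * (t : G)⁻¹ = u * e := by
    rw [← conj_mul, ← he, hte, hcomm]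
  by_contra hne
  have hue : (u : G) * e ≠ 1 := fun e' => hne (eq_inv_of_mul_eq_one_right e')
  have ho := (zpowers_eq_of_prime_card (card_sylow_seven_group h Q) (mul_mem u.2 heQ) hue)
  have hC := centralizer_seven h ho.2
  have htm : (t : G) ∈ Subgroup.zpowers ((u : G) * e) := by
    rw [← hC, Subgroup.mem_centralizer_singleton_iff]
    exact mul_inv_eq_iff_eq_mul.1 hfix
  have := Subgroup.card_dvd_of_le (Subgroup.zpowers_le.2 htm)
  rw [Nat.card_zpowers, Nat.card_zpowers, ht, ho.2] at this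
  norm_num at this

/-- There is no subgroup of index seven. -/
theorem index_ne_seven (h : Nat.card G = 504) (H : Subgroup G) : H.index ≠ 7 := by
  classical
  intro hidx
  obtain ⟨u, t, hu, ht, hinv⟩ := exists_inverting h
  have hHt : H ≠ ⊤ := fun e => by rw [e, Subgroup.index_top] at hidx; norm_num at hidx
  let _ := Fintype.ofFinite (G ⧸ H)
  have hcard : Fintype.card (G ⧸ H) = 7 := by rw [← Nat.card_eq_fintype_card]; exact hidx
  set ρ := MulAction.toPermHom G (G ⧸ H) with hρ
  have hinj : Function.Injective ρ := (MonoidHom.ker_eq_bot_iff ρ).1 (ker_eq_bot hHt)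
  set σ := ρ u with hσ
  set τ := ρ t with hτ
  have hσo : orderOf σ = 7 := by rw [hσ, orderOf_injective ρ hinj, hu]
  have hcyc : σ.IsCycle := Equiv.Perm.isCycle_of_prime_order'' (by rw [hcard]; norm_num)
    (by rw [hσo, hcard])
  have hsupp : σ.support = Finset.univ := by
    refine Finset.eq_univ_of_card _ ?_
    rw [← hcyc.orderOf, hσo, hcard]
  have hτ2 : τ ^ 2 = 1 := by rw [hτ, ← map_pow, ← ht, pow_orderOf_eq_one, map_one]
  obtain ⟨a, ha⟩ : ∃ a, τ a = a := by
    by_contra hne
    push Not at hne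
    have h2 := dvd_card_of_invariant hτ2 Finset.univ (fun _ => by simp) fun x _ => hne x
    rw [Finset.card_univ, hcard] at h2
    norm_num at h2
  let f : ZMod 7 → G ⧸ H := fun i => (σ ^ i.val) a
  have hf : Function.Bijective f := by
    refine Function.Surjective.bijective_of_nat_card_le (fun x => ?_)
      (by rw [Nat.card_zmod, Nat.card_eq_fintype_card, hcard])
    obtain ⟨k, hk⟩ := hcyc.exists_zpow_eq
      (Equiv.Perm.mem_support.1 (hsupp ▸ Finset.mem_univ a))
      (Equiv.Perm.mem_support.1 (hsupp ▸ Finset.mem_univ x))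
    refine ⟨(k : ZMod 7), ?_⟩
    rw [← hk]
    have e : σ ^ ((k : ZMod 7).val : ℤ) = σ ^ k := by
      rw [zpow_eq_zpow_iff_modEq, hσo]
      exact (ZMod.intCast_eq_intCast_iff _ _ 7).1 (by simp)
    rw [zpow_natCast] at e
    change (σ ^ (k : ZMod 7).val) a = _
    rw [e]
  let E := Equiv.ofBijective f hf
  have hconj : τ * σ * τ⁻¹ = σ⁻¹ := by rw [hτ, hσ, ← map_inv, ← map_mul, ← map_mul, hinv, map_inv]
  have hperm : τ = E.permCongr (Equiv.neg (ZMod 7)) := by
    refine Equiv.ext fun x => ?_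
    obtain ⟨i, rfl⟩ := hf.2 x
    rw [Equiv.permCongr_apply]
    rw [show E.symm (f i) = i from E.symm_apply_apply i]
    change τ ((σ ^ i.val) a) = (σ ^ (-i).val) a
    have e1 : τ * σ ^ i.val * τ⁻¹ = (σ⁻¹) ^ i.val := by rw [← conj_pow, hconj]
    have e2 : σ ^ ((-i).val : ℤ) = σ ^ (-(i.val : ℤ)) := by
      rw [zpow_eq_zpow_iff_modEq, hσo]
      exact (ZMod.intCast_eq_intCast_iff _ _ 7).1 (by simp)
    rw [zpow_natCast, zpow_neg, zpow_natCast, ← inv_pow] at e2
    rw [e2, ← e1, Equiv.Perm.mul_apply, Equiv.Perm.mul_apply,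
      Equiv.Perm.inv_eq_iff_eq.2 ha.symm]
  have hs := sign_eq_one h ρ t
  rw [← hτ, hperm, Equiv.Perm.sign_permCongr] at hs
  revert hs
  decide +kernel

theorem card_three (h : Nat.card G = 504) : Nat.card (Sylow 3 G) = 28 := by
  have hall : ∀ j ∈ Nat.divisors 56, j % 3 = 1 → j = 1 ∨ j = 4 ∨ j = 7 ∨ j = 28 := by decide +kernel
  have hfac := Cfsg.Agent.H30.two_mul_card_dvd_factorial_sylow (not_comm h) 3 (by rw [h]; norm_num)
  rw [h] at hfac
  rcases hall _ (Nat.mem_divisors.2 ⟨Cfsg.Agent.H30.card_sylow_dvd (p := 3) (a := 2) (m := 56)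
    (by rw [h]; norm_num) (by norm_num), by norm_num⟩) (card_sylow_modEq_one 3 G) with e | e | e | e
  · exact absurd e (Cfsg.Agent.H30.card_sylow_ne_one (not_comm h) 3 (by rw [h]; norm_num))
  · rw [e] at hfac; norm_num [Nat.factorial] at hfac
  · exact absurd (((default : Sylow 3 G).card_eq_index_normalizer).symm.trans e) (index_ne_seven h _)
  · exact e

theorem card_normalizer_three (h : Nat.card G = 504) (Q : Sylow 3 G) :
    Nat.card ↥(Subgroup.normalizer ((Q : Subgroup G) : Set G)) = 18 := by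
  have := Cfsg.Agent.H30.card_sylow_mul_normalizer 3 Q
  rw [card_three h, h] at this
  omega

theorem not_seven_dvd_centralizer (h : Nat.card G = 504) {d : G} (hd1 : d ≠ 1) (hd7 : orderOf d ≠ 7) :
    ¬ 7 ∣ Nat.card ↥(Subgroup.centralizer ({d} : Set G)) := by
  intro h7
  obtain ⟨u, hu⟩ := exists_prime_orderOf_dvd_card' 7 h7
  rw [← Subgroup.orderOf_coe] at hu
  have hmem : d ∈ Subgroup.zpowers (u : G) := by
    rw [← centralizer_seven h hu, Subgroup.mem_centralizer_singleton_iff]
    exact (Subgroup.mem_centralizer_singleton_iff.1 u.2).symm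
  exact hd7 (zpowers_eq_of_prime_card (p := 7) (by rw [Nat.card_zpowers, hu]) hmem hd1).2

/-- No proper subgroup has order divisible by 72. -/
theorem no_seventytwo (h : Nat.card G = 504) {H : Subgroup G} (hH : H ≠ ⊤) :
    ¬ 72 ∣ Nat.card ↥H := by
  rintro ⟨k, hk⟩
  have hmul := Subgroup.card_mul_index H
  rw [h, hk] at hmul
  have h7 : H.index ∣ 7 := ⟨k, by nlinarith⟩
  rcases (Nat.dvd_prime fact7.out).1 h7 with e | e
  · exact hH (Subgroup.index_eq_one.1 e)
  · exact index_ne_seven h H e

theorem centralizer_ne_top (h : Nat.card G = 504) {d : G} (hd : d ≠ 1) :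
    Subgroup.centralizer ({d} : Set G) ≠ ⊤ := fun e => by
  have hc : d ∈ Subgroup.center G := Subgroup.mem_center_iff.2 fun g =>
    Subgroup.mem_centralizer_singleton_iff.1 (e ▸ Subgroup.mem_top g)
  rcases (Subgroup.center G).normal_of_characteristic.eq_bot_or_eq_top with e' | e'
  · rw [e', Subgroup.mem_bot] at hc; exact hd hc
  · exact not_comm h ⟨⟨fun a b => ((Subgroup.mem_center_iff.1 (e' ▸ Subgroup.mem_top a)) b).symm⟩⟩

/-- The Sylow 3-subgroups have trivial intersections. -/
theorem ti (h : Nat.card G = 504) {P Q : Sylow 3 G} {d : G} (hd : d ≠ 1)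
    (hP : d ∈ (P : Subgroup G)) (hQ : d ∈ (Q : Subgroup G)) : P = Q := by
  classical
  by_contra hne
  set C := Subgroup.centralizer ({d} : Set G) with hC
  have hPC : (P : Subgroup G) ≤ C := fun x hx =>
    Subgroup.mem_centralizer_singleton_iff.2 (comm_sylow_three h P hx hP)
  have hQC : (Q : Subgroup G) ≤ C := fun x hx =>
    Subgroup.mem_centralizer_singleton_iff.2 (comm_sylow_three h Q hx hQ)
  have hPQ : P.subtype hPC ≠ Q.subtype hQC := fun e => hne (Sylow.subtype_injective e)
  have h9 := Subgroup.card_dvd_of_le hPC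
  rw [card_sylow_three_group h P] at h9
  have hd7 : orderOf d ≠ 7 := fun e => by
    have := orderOf_dvd_natCard (⟨d, hP⟩ : ↥(P : Subgroup G))
    rw [Subgroup.orderOf_mk, e, card_sylow_three_group h P] at this
    norm_num at this
  have hn7 := not_seven_dvd_centralizer h hd hd7
  have h72 := no_seventytwo h (centralizer_ne_top h hd)
  rw [← hC] at hn7 h72
  have hdvd : Nat.card ↥C ∈ Nat.divisors 504 :=
    Nat.mem_divisors.2 ⟨h ▸ C.card_subgroup_dvd_card, by norm_num⟩
  have hall : ∀ n ∈ Nat.divisors 504, 9 ∣ n → ¬ 7 ∣ n → ¬ 72 ∣ n → n = 9 ∨ n = 18 ∨ n = 36 := by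
    decide +kernel
  have hn := card_sylow_modEq_one 3 ↥C
  rw [Nat.ModEq] at hn
  have hne1 : Nat.card (Sylow 3 ↥C) ≠ 1 := fun e =>
    hPQ ((Nat.card_eq_one_iff_unique.1 e).1.elim _ _)
  rcases hall _ hdvd h9 hn7 h72 with e | e | e
  · have := Nat.le_of_dvd (by norm_num) (Cfsg.Agent.H30.card_sylow_dvd (G := ↥C) (p := 3) (a := 2)
      (m := 1) (by rw [e]; norm_num) (by norm_num))
    omega
  · have := Nat.le_of_dvd (by norm_num) (Cfsg.Agent.H30.card_sylow_dvd (G := ↥C) (p := 3) (a := 2)
      (m := 2) (by rw [e]; norm_num) (by norm_num))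
    omega
  · have hS9 : ∀ R : Sylow 3 ↥C, Nat.card ↥(R : Subgroup ↥C) = 9 := fun R => by
      simpa using Cfsg.Agent.H30.card_sylow_subgroup (a := 2) (m := 4) R (by rw [e]; norm_num)
        (by norm_num)
    set d' : ↥C := ⟨d, Subgroup.mem_centralizer_singleton_iff.2 rfl⟩ with hd'
    have hd'c : ∀ x : ↥C, d' * x = x * d' := fun x =>
      Subtype.ext (Subgroup.mem_centralizer_singleton_iff.1 x.2).symm
    have hd'o : ∃ k, orderOf d' = 3 ^ k := by
      obtain ⟨k, -, hk⟩ := (Nat.dvd_prime_pow Nat.prime_three).1 (show orderOf d' ∣ 3 ^ 2 by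
        rw [hd', Subgroup.orderOf_mk]
        have := orderOf_dvd_natCard (⟨d, hP⟩ : ↥(P : Subgroup G))
        rwa [Subgroup.orderOf_mk, card_sylow_three_group h P] at this)
      exact ⟨k, hk⟩
    set D := Subgroup.zpowers d' with hD
    have hDR : ∀ R : Sylow 3 ↥C, D ≤ (R : Subgroup ↥C) := fun R => by
      obtain ⟨k, hk⟩ := hd'o
      rw [hD, Subgroup.zpowers_le]
      refine mem_sylow_of_mem_normalizer R ?_ hk
      rw [Subgroup.mem_normalizer_iff]
      intro x
      rw [hd'c x, mul_inv_cancel_right]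
    -- distinct Sylow subgroups meet exactly in `D`
    have hD3 : Nat.card ↥D = 3 := by
      obtain ⟨k, hk⟩ := hd'o
      have hlt : D < (P.subtype hPC : Subgroup ↥C) := lt_of_le_of_ne (hDR _) fun e' => hPQ
        (Sylow.ext (e'.symm.trans (Subgroup.eq_of_le_of_card_ge (hDR _)
          (by rw [e', hS9, hS9]))))
      have hle := Subgroup.card_dvd_of_le hlt.le
      rw [hS9] at hle
      have hne9 : Nat.card ↥D ≠ 9 := fun e' =>
        hlt.ne (Subgroup.eq_of_le_of_card_ge hlt.le (by rw [e', hS9]))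
      have hne' : Nat.card ↥D ≠ 1 := fun e' => hd (by
        rw [hD, Nat.card_zpowers, orderOf_eq_one_iff] at e'
        exact congrArg Subtype.val e')
      have := Nat.le_of_dvd (by norm_num) hle
      have : 0 < Nat.card ↥D := Nat.card_pos
      interval_cases hx : Nat.card ↥D <;> omega
    have hn4 : Nat.card (Sylow 3 ↥C) = 4 := by
      have hd4 := Cfsg.Agent.H30.card_sylow_dvd (G := ↥C) (p := 3) (a := 2)
        (m := 4) (by rw [e]; norm_num) (by norm_num)
      have := Nat.le_of_dvd (by norm_num) hd4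
      interval_cases hx : Nat.card (Sylow 3 ↥C) <;> omega
    have hcount : 27 ≤ Nat.card {g : ↥C // g ^ 9 = 1} := by
      have hfR := Fintype.ofFinite (Sylow 3 ↥C)
      let T : Sylow 3 ↥C → Type _ := fun R => {g : ↥C // g ∈ (R : Subgroup ↥C) ∧ g ∉ D}
      have hT : ∀ R, Nat.card (T R) = 6 := fun R => by
        have e0 : Nat.card ({x | x ∈ (R : Subgroup ↥C) ∧ x ∉ D} : Set ↥C) =
            ((R : Subgroup ↥C) : Set ↥C).ncard - ((D : Subgroup ↥C) : Set ↥C).ncard := by
          rw [Nat.card_coe_set_eq, ← Set.ncard_sdiff (SetLike.coe_subset_coe.2 (hDR R))]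
          rfl
        rw [← Nat.card_coe_set_eq, ← Nat.card_coe_set_eq, SetLike.coe_sort_coe,
          SetLike.coe_sort_coe, hS9, hD3] at e0
        exact e0
      have hsig : Nat.card (↥D ⊕ Σ R, T R) = 27 := by
        rw [Nat.card_sum, Nat.card_sigma, Finset.sum_congr rfl (fun R _ => hT R), Finset.sum_const,
          Finset.card_univ, ← Nat.card_eq_fintype_card, hn4, hD3]
        rfl
      rw [← hsig]
      have hpow : ∀ (R : Sylow 3 ↥C) (g : ↥C), g ∈ (R : Subgroup ↥C) → g ^ 9 = 1 := fun R g hg => by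
        have := orderOf_dvd_natCard (⟨g, hg⟩ : ↥(R : Subgroup ↥C))
        rw [Subgroup.orderOf_mk, hS9] at this
        exact orderOf_dvd_iff_pow_eq_one.1 this
      refine Nat.card_le_card_of_injective (fun s => Sum.elim
        (fun g : ↥D => (⟨g.1, hpow default g.1 (hDR _ g.2)⟩ : {g : ↥C // g ^ 9 = 1}))
        (fun g : Σ R, T R => ⟨g.2.1, hpow g.1 g.2.1 g.2.2.1⟩) s) ?_
      rintro (⟨a, ha⟩ | ⟨R, a, ha, ha'⟩) (⟨b, hb⟩ | ⟨R', b, hb, hb'⟩) hab <;>
        have hab' : a = b := congrArg Subtype.val hab <;> subst hab'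
      · rfl
      · exact absurd ha hb'
      · exact absurd hb ha'
      · obtain rfl : R = R' := by
          by_contra hRR
          have hlt : D < (R : Subgroup ↥C) ⊓ (R' : Subgroup ↥C) :=
            lt_of_le_of_ne (le_inf (hDR R) (hDR R')) fun e' => ha' (e'.symm ▸ ⟨ha, hb⟩)
          have hle := Subgroup.card_dvd_of_le
            (inf_le_left : (R : Subgroup ↥C) ⊓ (R' : Subgroup ↥C) ≤ R)
          have hgt : 3 < Nat.card ↥((R : Subgroup ↥C) ⊓ (R' : Subgroup ↥C)) := by
            exact lt_of_eq_of_lt hD3.symm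
              (lt_of_not_ge fun hge => hlt.ne (Subgroup.eq_of_le_of_card_ge hlt.le hge))
          rw [hS9] at hle
          have := Nat.le_of_dvd (by norm_num) hle
          have h9' : Nat.card ↥((R : Subgroup ↥C) ⊓ (R' : Subgroup ↥C)) = 9 := by
            interval_cases hx : Nat.card ↥((R : Subgroup ↥C) ⊓ (R' : Subgroup ↥C)) <;> omega
          exact hRR (Sylow.ext
            ((Subgroup.eq_of_le_of_card_ge inf_le_left (by rw [h9', hS9])).symm.trans
              (Subgroup.eq_of_le_of_card_ge inf_le_right (by rw [h9', hS9]))))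
        rfl
    have hrest : Nat.card {g : ↥C // ¬ g ^ 9 = 1} ≤ 9 := by
      have := Fintype.ofFinite ↥C
      rw [Nat.card_eq_fintype_card] at e hcount ⊢
      rw [Fintype.card_subtype_compl, e]
      omega
    have hinj : Nat.card ({g : ↥C // g ^ 4 = 1 ∧ g ≠ 1} × ↥D) ≤ 9 := by
      refine le_trans ?_ hrest
      have hd9 : ∀ x ∈ D, x ^ 9 = 1 := fun x hx => by
        have := orderOf_dvd_natCard (⟨x, hx⟩ : ↥D)
        rw [Subgroup.orderOf_mk, hD3] at this
        exact orderOf_dvd_iff_pow_eq_one.1 (this.trans (by norm_num))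
      have hcD : ∀ x ∈ D, ∀ y : ↥C, Commute x y := fun x hx y => by
        obtain ⟨k, rfl⟩ := hx
        exact (show Commute d' y from hd'c y).zpow_left k
      have key : ∀ (v : {g : ↥C // g ^ 4 = 1 ∧ g ≠ 1}) (x : ↥D), (v.1 * x.1) ^ 9 = v.1 := fun v x => by
        rw [(hcD x.1 x.2 v.1).symm.mul_pow, hd9 _ x.2, mul_one, show (9 : ℕ) = 4 + 4 + 1 from rfl,
          pow_succ, pow_add, v.2.1, one_mul, one_mul]
      refine Nat.card_le_card_of_injective
        (fun vx => (⟨vx.1.1 * vx.2.1, fun e' => vx.1.2.2 ((key vx.1 vx.2).symm.trans e')⟩ :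
          {g : ↥C // ¬ g ^ 9 = 1})) ?_
      rintro ⟨v, x⟩ ⟨w, y⟩ hvw
      have hvw' : v.1 * x.1 = w.1 * y.1 := congrArg Subtype.val hvw
      have hv : v = w := Subtype.ext ((key v x).symm.trans ((congrArg (· ^ 9) hvw').trans (key w y)))
      subst hv
      rw [Subtype.ext (mul_left_cancel hvw')]
    rw [Nat.card_prod, hD3] at hinj
    have h2le : Nat.card {g : ↥C // g ^ 4 = 1} ≤ 4 := by
      have h1 : Nat.card {g : ↥C // g ^ 4 = 1} ≤ Nat.card (Option {g : ↥C // g ^ 4 = 1 ∧ g ≠ 1}) := by
        refine Nat.card_le_card_of_surjective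
          (fun o => o.elim (⟨1, one_pow 4⟩ : {g : ↥C // g ^ 4 = 1}) fun g => ⟨g.1, g.2.1⟩) ?_
        rintro ⟨g, hg⟩
        by_cases hg1 : g = 1
        · exact ⟨none, Subtype.ext hg1.symm⟩
        · exact ⟨Option.some ⟨g, hg, hg1⟩, rfl⟩
      rw [Finite.card_option] at h1
      omega
    have h2c : ∀ R : Sylow 2 ↥C, Nat.card ↥(R : Subgroup ↥C) = 4 := fun R => by
      simpa using Cfsg.Agent.H30.card_sylow_subgroup (a := 2) (m := 9) R (by rw [e]; norm_num)
        (by norm_num)
    have hset : ∀ R : Sylow 2 ↥C, ((R : Subgroup ↥C) : Set ↥C) = {g | g ^ 4 = 1} := fun R => by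
      refine Set.eq_of_subset_of_ncard_le (fun g hg => ?_) ?_ (Set.toFinite _)
      · have := orderOf_dvd_natCard (⟨g, hg⟩ : ↥(R : Subgroup ↥C))
        rw [Subgroup.orderOf_mk, h2c] at this
        exact orderOf_dvd_iff_pow_eq_one.1 this
      · rw [← Nat.card_coe_set_eq, ← Nat.card_coe_set_eq]
        exact h2le.trans (h2c R).ge
    have h1 : Nat.card (Sylow 2 ↥C) = 1 := Nat.card_eq_one_iff_unique.2
      ⟨⟨fun A B => Sylow.ext (SetLike.coe_injective ((hset A).trans (hset B).symm))⟩, inferInstance⟩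
    let R : Sylow 2 ↥C := default
    set V := (R : Subgroup ↥C).map C.subtype with hV
    have hCN := Simple168.le_normalizer_of_unique h1 R
    rw [← hV] at hCN
    have hV4 : Nat.card ↥V = 4 := by rw [hV, Simple168.card_subtype_map, h2c]
    obtain ⟨S, hS⟩ := (IsPGroup.of_card (p := 2) (n := 2)
      (show Nat.card ↥V = 2 ^ 2 by rw [hV4]; rfl)).exists_le_sylow
    have hSN : (S : Subgroup G) ≤ Subgroup.normalizer (V : Set G) := by
      rw [← Subgroup.normal_subgroupOf_iff_le_normalizer hS]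
      refine Subgroup.normal_of_index_eq_two ?_
      have e' := Subgroup.card_mul_index (V.subgroupOf (S : Subgroup G))
      rw [Nat.card_congr (Subgroup.subgroupOfEquivOfLe hS).toEquiv, hV4,
        card_sylow_two_group h S] at e'
      omega
    have hd1 := Subgroup.card_dvd_of_le hSN
    have hd2 := Subgroup.card_dvd_of_le hCN
    rw [card_sylow_two_group h S] at hd1
    rw [e] at hd2
    refine no_seventytwo h (Cfsg.Agent.H30.normalizer_ne_top V
      (fun e' => by rw [e', Subgroup.card_bot] at hV4; norm_num at hV4)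
      (fun e' => by rw [e', Subgroup.card_top, h] at hV4; norm_num at hV4)) ?_
    exact Nat.Coprime.mul_dvd_of_dvd_of_dvd (show Nat.Coprime 8 9 by norm_num) hd1
      ((show 9 ∣ 36 by norm_num).trans hd2)

end Cfsg.Agent.H31.Simple504
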