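import Mathlib
import Cfsg.Agent.H31.Simple504

/-!
The Sylow 2-subgroups and involution centralisers of a simple group of order 504.
-/

set_option autoImplicit false
set_option linter.unusedSectionVars false

namespace Cfsg.Agent.H31.Simple504

open scoped Pointwise

variable {G : Type*} [Group G] [Finite G] [IsSimpleGroup G]

theorem exists_sylow_three_of_pow (_h : Nat.card G = 504) {g : G} (hg : g ^ 9 = 1) :
    ∃ Q : Sylow 3 G, g ∈ (Q : Subgroup G) := by
  obtain ⟨k, -, hk⟩ := (Nat.dvd_prime_pow Nat.prime_three).1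
    (show orderOf g ∣ 3 ^ 2 from orderOf_dvd_of_pow_eq_one hg)
  obtain ⟨Q, hQ⟩ := (IsPGroup.of_card (p := 3) (n := k)
    (show Nat.card ↥(Subgroup.zpowers g) = 3 ^ k by rw [Nat.card_zpowers, hk])).exists_le_sylow
  exact ⟨Q, hQ (Subgroup.mem_zpowers g)⟩

theorem pow_nine_of_mem (h : Nat.card G = 504) {Q : Sylow 3 G} {g : G} (hg : g ∈ (Q : Subgroup G)) :
    g ^ 9 = 1 := by
  have := orderOf_dvd_natCard (⟨g, hg⟩ : ↥(Q : Subgroup G))
  rw [Subgroup.orderOf_mk, card_sylow_three_group h Q] at this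
  exact orderOf_dvd_iff_pow_eq_one.1 this

theorem card_three_elements (h : Nat.card G = 504) :
    Nat.card {g : G // g ^ 9 = 1 ∧ g ≠ 1} = 224 := by
  classical
  have hf := Fintype.ofFinite (Sylow 3 G)
  have hQ8 : ∀ Q : Sylow 3 G, Nat.card {u : ↥(Q : Subgroup G) // u ≠ 1} = 8 := fun Q => by
    have h1 := Nat.card_congr (Equiv.optionSubtypeNe (1 : ↥(Q : Subgroup G)))
    rw [Finite.card_option, card_sylow_three_group h] at h1
    omega
  have hsig : Nat.card (Σ Q : Sylow 3 G, {u : ↥(Q : Subgroup G) // u ≠ 1}) = 224 := by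
    rw [Nat.card_sigma, Finset.sum_congr rfl (fun Q _ => hQ8 Q), Finset.sum_const, smul_eq_mul,
      Finset.card_univ, ← Nat.card_eq_fintype_card, card_three h]
  rw [← hsig]
  refine (Nat.card_eq_of_bijective (fun s => (⟨(s.2.1 : G), pow_nine_of_mem h s.2.1.2,
    fun e => s.2.2 (Subtype.ext e)⟩ : {g : G // g ^ 9 = 1 ∧ g ≠ 1})) ⟨?_, ?_⟩).symm
  · rintro ⟨Q, ⟨u, hu'⟩, hu⟩ ⟨R, ⟨v, hv'⟩, hv⟩ e
    obtain rfl : u = v := congrArg Subtype.val e
    obtain rfl : Q = R := ti h (fun e => hu (Subtype.ext e)) hu' hv'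
    rfl
  · rintro ⟨g, hg, hg1⟩
    obtain ⟨Q, hQ⟩ := exists_sylow_three_of_pow h hg
    exact ⟨⟨Q, ⟨g, hQ⟩, fun e => hg1 (congrArg Subtype.val e)⟩, rfl⟩

theorem card_rest (h : Nat.card G = 504) :
    Nat.card {g : G // g ^ 9 ≠ 1 ∧ orderOf g ≠ 7} = 63 := by
  classical
  have := Fintype.ofFinite G
  have h7 := card_orderOf_eq_prime (default : Sylow 7 G) (card_sylow_seven_group h _)
  rw [card_seven h] at h7
  have h3 := card_three_elements h
  have e1 := Finset.card_filter_add_card_filter_not (s := (Finset.univ : Finset G))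
    (fun g : G => g ^ 9 = 1)
  have e2 := Finset.card_filter_add_card_filter_not
    (s := (Finset.univ : Finset G).filter (fun g : G => ¬ g ^ 9 = 1)) (fun g : G => orderOf g = 7)
  rw [Finset.filter_filter, Finset.filter_filter] at e2
  have e3 : ((Finset.univ : Finset G).filter fun g : G => ¬ g ^ 9 = 1 ∧ orderOf g = 7) =
      Finset.univ.filter fun g : G => orderOf g = 7 := Finset.filter_congr fun g _ =>
    ⟨And.right, fun e => ⟨fun e' => by
      have := orderOf_dvd_of_pow_eq_one e'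
      rw [e] at this
      norm_num at this, e⟩⟩
  have e4 : ((Finset.univ : Finset G).filter fun g : G => g ^ 9 = 1) =
      insert 1 (Finset.univ.filter fun g : G => g ^ 9 = 1 ∧ g ≠ 1) := by
    ext g
    by_cases hg : g = 1 <;> simp [hg]
  rw [e3] at e2
  rw [e4, Finset.card_insert_of_notMem (by simp), Finset.card_univ, ← Nat.card_eq_fintype_card, h] at e1
  rw [Nat.card_eq_fintype_card, Fintype.card_subtype] at h7 h3 ⊢
  simp only [Ne] at h3 h7 e1 e2 ⊢
  omega

theorem not_commute_three (h : Nat.card G = 504) {u t : G} (hu : orderOf u = 3) (ht : orderOf t = 2) :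
    ¬ Commute u t := by
  classical
  intro hc
  have hu1 : u ≠ 1 := fun e => by rw [e, orderOf_one] at hu; norm_num at hu
  have hu3 : u ^ 3 = 1 := orderOf_dvd_iff_pow_eq_one.1 hu.dvd
  obtain ⟨P, hP⟩ := exists_sylow_three_of_pow h (g := u) (orderOf_dvd_iff_pow_eq_one.1 (by rw [hu]; norm_num))
  set N := Subgroup.normalizer ((P : Subgroup G) : Set G) with hN
  set C := Subgroup.centralizer ({u} : Set G) with hC
  have hCN : C ≤ N := fun x hx => by
    refine Sylow.smul_eq_iff_mem_normalizer.1 (ti h hu1 ?_ hP)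
    rw [Sylow.coe_subgroup_smul]
    refine ⟨u, hP, ?_⟩
    change x * u * x⁻¹ = u
    rw [Subgroup.mem_centralizer_singleton_iff.1 hx, mul_inv_cancel_right]
  have hPC : (P : Subgroup G) ≤ C := fun x hx =>
    Subgroup.mem_centralizer_singleton_iff.2 (comm_sylow_three h P hx hP)
  have htC : t ∈ C := Subgroup.mem_centralizer_singleton_iff.2 hc.eq.symm
  have h18 : ∀ H : Subgroup G, (P : Subgroup G) ≤ H → t ∈ H → 18 ∣ Nat.card ↥H := fun H hPH htH => by
    have h9 := Subgroup.card_dvd_of_le hPH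
    rw [card_sylow_three_group h P] at h9
    have h2 := Subgroup.card_dvd_of_le (Subgroup.zpowers_le.2 htH)
    rw [Nat.card_zpowers, ht] at h2
    exact Nat.Coprime.mul_dvd_of_dvd_of_dvd (show Nat.Coprime 2 9 by norm_num) h2 h9
  have hCeq : C = N := Subgroup.eq_of_le_of_card_ge hCN
    (by rw [hN, card_normalizer_three h P]; exact Nat.le_of_dvd Nat.card_pos (h18 C hPC htC))
  obtain ⟨w, hw, hwt⟩ : ∃ w ∈ (P : Subgroup G), ¬ Commute w t := by
    by_contra hne
    push Not at hne
    refine Cfsg.Agent.H30.not_normalizer_le_centralizer (not_comm h) 3 (by rw [h]; norm_num) P ?_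
    have hle : N ⊓ Subgroup.centralizer ((P : Subgroup G) : Set G) = N := by
      refine Subgroup.eq_of_le_of_card_ge inf_le_left ?_
      rw [hN, card_normalizer_three h P]
      refine Nat.le_of_dvd Nat.card_pos (h18 _ (le_inf Subgroup.le_normalizer fun x hx => ?_)
        ⟨hCN htC, ?_⟩)
      · exact Subgroup.mem_centralizer_iff.2 fun y hy => comm_sylow_three h P hy hx
      · exact Subgroup.mem_centralizer_iff.2 fun y hy => hne y hy
    exact inf_eq_left.1 hle
  have hw9 : w ^ 9 = 1 := pow_nine_of_mem h hw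
  let T : Fin 3 → G := fun i => w ^ (i : ℕ) * t * (w ^ (i : ℕ))⁻¹
  have hT2 : ∀ i, orderOf (T i) = 2 := fun i => by rw [orderOf_conj_eq, ht]
  have hTu : ∀ i, Commute u (T i) := fun i => by
    have huw : Commute u (w ^ (i : ℕ)) := (show Commute u w from comm_sylow_three h P hP hw).pow_right _
    exact (huw.mul_right hc).mul_right huw.inv_right
  have hTinj : Function.Injective T := by
    have hk : ∀ k : ℕ, w ^ k * t * (w ^ k)⁻¹ = t → Commute (w ^ k) t := fun k hk =>
      mul_inv_eq_iff_eq_mul.1 hk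
    have h1 : w ^ 1 * t * (w ^ 1)⁻¹ ≠ t := fun e => hwt (by simpa using hk 1 e)
    have h2 : w ^ 2 * t * (w ^ 2)⁻¹ ≠ t := fun e => hwt (by
      have hcm := (hk 2 e).pow_left 5
      rwa [← pow_mul, show 2 * 5 = 9 + 1 from rfl, pow_succ, hw9, one_mul] at hcm)
    have h12 : w ^ 1 * t * (w ^ 1)⁻¹ ≠ w ^ 2 * t * (w ^ 2)⁻¹ := fun e => h1 (by
      rw [pow_two] at e
      rw [pow_one] at e ⊢
      calc w * t * w⁻¹ = w⁻¹ * (w * w * t * (w * w)⁻¹) * w := by group
        _ = w⁻¹ * (w * t * w⁻¹) * w := by rw [e]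
        _ = t := by group)
    intro i j hij
    simp only [T] at hij
    fin_cases i <;> fin_cases j <;> first
      | rfl
      | (exfalso; simp only [pow_zero, one_mul, inv_one, mul_one] at hij
         first
          | exact h1 hij | exact h1 hij.symm | exact h2 hij | exact h2 hij.symm
          | exact h12 hij | exact h12 hij.symm)
  have hcls := card_class_mul_centralizer u
  rw [← hC, hCeq, hN, card_normalizer_three h P, h] at hcls
  choose c hcx using fun x : {x : G // IsConj u x} => isConj_iff.1 x.2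
  let f : {x : G // IsConj u x} × Fin 3 → {g : G // g ^ 9 ≠ 1 ∧ orderOf g ≠ 7} :=
    fun p => ⟨c p.1 * (u * T p.2) * (c p.1)⁻¹, by
      have ht2 : (T p.2) ^ 2 = 1 := orderOf_dvd_iff_pow_eq_one.1 (hT2 _).dvd
      have hu9 : u ^ 9 = 1 := by rw [show (9 : ℕ) = 3 * 3 from rfl, pow_mul, hu3, one_pow]
      have ht9 : (T p.2) ^ 9 = T p.2 := by
        rw [show (9 : ℕ) = 2 * 4 + 1 from rfl, pow_succ, pow_mul, ht2, one_pow, one_mul]
      constructor
      · rw [conj_pow, (hTu _).mul_pow, hu9, one_mul, ht9, Ne, conj_eq_one_iff]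
        intro e
        have := hT2 p.2
        rw [e, orderOf_one] at this
        norm_num at this
      · rw [orderOf_conj_eq, (hTu _).orderOf_mul_eq_mul_orderOf_of_coprime (by rw [hu, hT2]; norm_num),
          hu, hT2]
        norm_num⟩
  have hfinj : Function.Injective f := by
    have key : ∀ p, (f p).1 ^ 4 = p.1.1 := fun p => by
      have ht2 : (T p.2) ^ 2 = 1 := orderOf_dvd_iff_pow_eq_one.1 (hT2 _).dvd
      change (c p.1 * (u * T p.2) * (c p.1)⁻¹) ^ 4 = _
      rw [conj_pow, (hTu _).mul_pow, show (4 : ℕ) = 3 + 1 from rfl, pow_succ u, hu3, one_mul,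
        show (3 + 1 : ℕ) = 2 * 2 from rfl, pow_mul, ht2, one_pow, mul_one, hcx]
    intro p q e
    have hx : p.1 = q.1 := Subtype.ext ((key p).symm.trans ((by rw [e] : (f p).1 ^ 4 = (f q).1 ^ 4).trans (key q)))
    have e' : c p.1 * (u * T p.2) * (c p.1)⁻¹ = c q.1 * (u * T q.2) * (c q.1)⁻¹ := congrArg Subtype.val e
    rw [← hx] at e'
    exact Prod.ext hx (hTinj (mul_left_cancel (mul_left_cancel (mul_right_cancel e'))))
  have := Nat.card_le_card_of_injective f hfinj
  rw [Nat.card_prod, card_rest h, Nat.card_eq_fintype_card (α := Fin 3), Fintype.card_fin] at this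
  omega

theorem involution_facts (h : Nat.card G = 504) {t : G} (ht : orderOf t = 2) :
    Nat.card ↥(Subgroup.centralizer ({t} : Set G)) = 8 ∧
      ∀ g : G, g ^ 9 ≠ 1 → orderOf g ≠ 7 → g * g = 1 := by
  set C := Subgroup.centralizer ({t} : Set G) with hC
  have h3 : ¬ 3 ∣ Nat.card ↥C := fun hd => by
    obtain ⟨u, hu⟩ := exists_prime_orderOf_dvd_card' 3 hd
    rw [← Subgroup.orderOf_coe] at hu
    exact not_commute_three h hu ht (Subgroup.mem_centralizer_singleton_iff.1 u.2)
  have ht1 : t ≠ 1 := fun e => by rw [e, orderOf_one] at ht; norm_num at ht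
  have h7 := not_seven_dvd_centralizer h ht1 (by rw [ht]; norm_num)
  have h8 : Nat.card ↥C ∣ 8 := by
    have hco : Nat.Coprime (Nat.card ↥C) 63 := by
      rw [show (63 : ℕ) = 3 * 3 * 7 from rfl]
      exact Nat.Coprime.mul_right
        (Nat.Coprime.mul_right ((Nat.prime_three.coprime_iff_not_dvd.2 h3).symm)
          ((Nat.prime_three.coprime_iff_not_dvd.2 h3).symm))
        ((fact7.out.coprime_iff_not_dvd.2 h7).symm)
    refine hco.dvd_of_dvd_mul_right (m := 8) ?_
    rw [show 8 * 63 = 504 from rfl, ← h]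
    exact C.card_subgroup_dvd_card
  have hmem : ∀ g : G, IsConj t g → g ^ 9 ≠ 1 ∧ orderOf g ≠ 7 := fun g hg => by
    obtain ⟨c, rfl⟩ := isConj_iff.1 hg
    rw [orderOf_conj_eq, ht]
    refine ⟨fun e => ?_, by norm_num⟩
    have := orderOf_dvd_of_pow_eq_one e
    rw [orderOf_conj_eq, ht] at this
    norm_num at this
  let f : {g : G // IsConj t g} → {g : G // g ^ 9 ≠ 1 ∧ orderOf g ≠ 7} := fun g => ⟨g.1, hmem g.1 g.2⟩
  have hinj : Function.Injective f := fun a b e => Subtype.ext (congrArg (·.1) e)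
  have hle := Nat.card_le_card_of_injective f hinj
  rw [card_rest h] at hle
  have hmul := card_class_mul_centralizer t
  rw [h] at hmul
  have hC8 : Nat.card ↥C = 8 := by
    have := Nat.le_of_dvd (by norm_num) h8
    have := Nat.mul_le_mul_right (Nat.card ↥C) hle
    interval_cases hx : Nat.card ↥C <;> omega
  refine ⟨hC8, fun g hg9 hg7 => ?_⟩
  have hbij := hinj.bijective_of_nat_card_le (by
    rw [card_rest h]
    rw [← hC, hC8] at hmul
    omega)
  obtain ⟨x, hx⟩ := hbij.2 ⟨g, hg9, hg7⟩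
  obtain ⟨c, hc⟩ := isConj_iff.1 x.2
  have hxg : x.1 = g := congrArg Subtype.val hx
  rw [← hxg, ← hc, ← pow_two, conj_pow, orderOf_dvd_iff_pow_eq_one.1 ht.dvd, mul_one, mul_inv_cancel]

theorem sylow_two_sq (h : Nat.card G = 504) (S : Sylow 2 G) {g : G} (hg : g ∈ (S : Subgroup G)) :
    g * g = 1 := by
  obtain ⟨t, ht⟩ := exists_prime_orderOf_dvd_card' (G := G) 2 (by rw [h]; norm_num)
  have hd := orderOf_dvd_natCard (⟨g, hg⟩ : ↥(S : Subgroup G))
  rw [Subgroup.orderOf_mk, card_sylow_two_group h S] at hd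
  by_cases hg1 : g = 1
  · rw [hg1, mul_one]
  refine (involution_facts h ht).2 g (fun e => hg1 ?_) (fun e => ?_)
  · have := orderOf_dvd_of_pow_eq_one e
    exact orderOf_eq_one_iff.1
      (Nat.dvd_one.1 (by simpa using Nat.dvd_gcd hd this))
  · rw [e] at hd
    norm_num at hd

theorem elementary_centralizer (h : Nat.card G = 504) {t : G} (ht : orderOf t = 2) :
    IsMulCommutative (Subgroup.centralizer ({t} : Set G)) ∧
      ∀ c ∈ Subgroup.centralizer ({t} : Set G), c ^ 2 = 1 := by
  set C := Subgroup.centralizer ({t} : Set G) with hC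
  have hc8 := (involution_facts h ht).1
  obtain ⟨S, hS⟩ := (IsPGroup.of_card (p := 2) (n := 3)
    (show Nat.card ↥C = 2 ^ 3 by rw [hC, hc8]; rfl)).exists_le_sylow
  have hsq : ∀ c ∈ C, c * c = 1 := fun c hc => sylow_two_sq h S (hS hc)
  refine ⟨⟨⟨fun a b => Subtype.ext ?_⟩⟩, fun c hc => by rw [pow_two]; exact hsq c hc⟩
  have h1 := hsq _ (mul_mem a.2 b.2)
  have h2 := hsq _ a.2
  have h3 := hsq _ b.2
  show (a : G) * b = b * a
  calc (a : G) * b = a * ((a * b) * (a * b)) * b := by rw [h1, mul_one]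
    _ = (a * a) * (b * a) * (b * b) := by simp only [mul_assoc]
    _ = b * a := by rw [h2, h3, one_mul, mul_one]

theorem sylow_two_not_cyclic (h : Nat.card G = 504) (S : Sylow 2 G) :
    ¬ IsCyclic (S : Subgroup G) := by
  intro hc
  obtain ⟨g, hg⟩ := IsCyclic.exists_ofOrder_eq_natCard (α := ↥(S : Subgroup G))
  rw [card_sylow_two_group h S, ← Subgroup.orderOf_coe] at hg
  have := orderOf_dvd_of_pow_eq_one (x := (g : G)) (n := 2) (by rw [pow_two]; exact sylow_two_sq h S g.2)
  rw [hg] at this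
  norm_num at this

theorem sylow_two_not_normal (h : Nat.card G = 504) (S : Sylow 2 G) :
    ¬ (S : Subgroup G).Normal := fun hn => by
  have h8 := card_sylow_two_group h S
  rcases hn.eq_bot_or_eq_top with e | e
  · rw [e, Subgroup.card_bot] at h8; norm_num at h8
  · rw [e, Subgroup.card_top, h] at h8; norm_num at h8

end Cfsg.Agent.H31.Simple504
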